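import Groth.Agent.RelTildeLib.Glue
import Groth.Agent.GrModLib.Lift
import Groth.Agent.QCohLib.Exact
import Groth.Agent.CohBase.Push

/-! Exactness of the maps induced on a relative `Proj`. -/

set_option autoImplicit false
set_option linter.style.haveILetI false
set_option backward.isDefEq.respectTransparency false

universe u

open CategoryTheory CategoryTheory.Limits AlgebraicGeometry TopologicalSpace Opposite
open scoped HomogeneousIdeal

noncomputable section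

namespace Groth.Agent.RelTildeLib

theorem app_injective_of_mono {X : Scheme.{u}} {M N : X.Modules} (f : M ⟶ N) [Mono f] (W : X.Opens) :
    Function.Injective (f.app W) := by
  have h : Mono f.mapPresheaf := inferInstanceAs (Mono ((Scheme.Modules.toPresheaf X).map f))
  rw [NatTrans.mono_iff_mono_app] at h
  exact (AddCommGrpCat.mono_iff_injective _).1 (h (op W))

theorem mono_of_app_injective {X : Scheme.{u}} {M N : X.Modules} (f : M ⟶ N)
    (h : ∀ W : X.Opens, Function.Injective (f.app W)) : Mono f := by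
  haveI : Mono f.mapPresheaf := by
    rw [NatTrans.mono_iff_mono_app]
    exact fun W => (AddCommGrpCat.mono_iff_injective _).2 (h W.unop)
  exact (Scheme.Modules.toPresheaf X).mono_of_mono_map (f := f) this

theorem epi_of_local {X : Scheme.{u}} {M N : X.Modules} (g : M ⟶ N)
    (h : ∀ (W : X.Opens) (s : Γ(N, W)) (x : X), x ∈ W →
      ∃ (V : X.Opens) (hVW : V ≤ W), x ∈ V ∧ ∃ t, g.app V t = N.presheaf.map (homOfLE hVW).op s) : Epi g :=
  haveI : (QCohLib.toAbF X).Faithful :=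
    inferInstanceAs (SheafOfModules.toSheaf.{u} X.ringCatSheaf).Faithful
  (QCohLib.toAbF X).epi_of_epi_map
    (CohBase.epi_of_local ((QCohLib.toAbF X).map g) fun W s x hx => h W s x hx)

theorem exact_of_local {X : Scheme.{u}} {F₁ F₂ F₃ : X.Modules} (f : F₁ ⟶ F₂) (g : F₂ ⟶ F₃) (w : f ≫ g = 0)
    (h : ∀ (W : X.Opens) (s : Γ(F₂, W)), g.app W s = 0 → ∀ x ∈ W,
      ∃ (V : X.Opens) (hVW : V ≤ W), x ∈ V ∧ ∃ t, f.app V t = F₂.presheaf.map (homOfLE hVW).op s) :
    (ShortComplex.mk f g w).Exact := by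
  rw [ShortComplex.exact_iff_epi_kernel_lift]
  refine epi_of_local _ fun W s x hx => ?_
  obtain ⟨V, hVW, hxV, t, ht⟩ := h W ((kernel.ι g).app W s)
    (congrArg (fun φ : kernel g ⟶ F₃ => φ.app W s) (kernel.condition g)) x hx
  refine ⟨V, hVW, hxV, t, app_injective_of_mono (kernel.ι g) V ?_⟩
  refine Eq.trans ?_ (ht.trans (ConcreteCategory.congr_hom ((kernel.ι g).mapPresheaf.naturality (homOfLE hVW).op) s).symm)
  exact congrArg (fun φ : F₁ ⟶ F₂ => φ.app V t) (kernel.lift_ι g f w)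

variable {Y P : Scheme.{u}} {𝒮 : RelProj.QCGrAlg Y} {p : P ⟶ Y}
  {chart : ∀ (U : Y.Opens) (hU : IsAffineOpen U), (((p ⁻¹ᵁ U : P.Opens) : Scheme.{u}) ≅ Proj (𝒮.deg U hU))}
  {F₁ F₂ : P.Modules} {G₁ G₂ : ∀ (U : Y.Opens) (hU : IsAffineOpen U), (Proj (𝒮.deg U hU)).Modules}
  {lam₁ : ∀ (U : Y.Opens) (hU : IsAffineOpen U),
      F₁ ⟶ (Scheme.Modules.pushforward (RelProj.emb p chart U hU)).obj (G₁ U hU)}
  {lam₂ : ∀ (U : Y.Opens) (hU : IsAffineOpen U),
      F₂ ⟶ (Scheme.Modules.pushforward (RelProj.emb p chart U hU)).obj (G₂ U hU)}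

theorem app_square {U : Y.Opens} {hU : IsAffineOpen U} {ut : F₁ ⟶ F₂} {g : G₁ U hU ⟶ G₂ U hU}
    (hut : ut ≫ lam₂ U hU = lam₁ U hU ≫ (Scheme.Modules.pushforward (RelProj.emb p chart U hU)).map g)
    (W : P.Opens) (s : Γ(F₁, W)) :
    (lam₂ U hU).app W (ut.app W s) = g.app (RelProj.emb p chart U hU ⁻¹ᵁ W) ((lam₁ U hU).app W s) := by
  have := congrArg (fun φ : F₁ ⟶ (Scheme.Modules.pushforward (RelProj.emb p chart U hU)).obj (G₂ U hU) =>
    φ.app W s) hut
  simp only [Scheme.Modules.Hom.comp_app, ConcreteCategory.comp_apply, Scheme.Modules.pushforward_map_app] at this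
  exact this

/-- A local lift in a chart gives a local lift on `P`. -/
theorem exists_lift_of_chart {U : Y.Opens} {hU : IsAffineOpen U}
    (hb₁ : ∀ W : P.Opens, W ≤ p ⁻¹ᵁ U → Function.Bijective ((lam₁ U hU).app W))
    (hb₂ : ∀ W : P.Opens, W ≤ p ⁻¹ᵁ U → Function.Bijective ((lam₂ U hU).app W))
    {ut : F₁ ⟶ F₂} {g : G₁ U hU ⟶ G₂ U hU}
    (hut : ut ≫ lam₂ U hU = lam₁ U hU ≫ (Scheme.Modules.pushforward (RelProj.emb p chart U hU)).map g)
    {W : P.Opens} (s : Γ(F₂, W)) {y : Proj (𝒮.deg U hU)}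
    (h : ∃ (V : (Proj (𝒮.deg U hU)).Opens) (hV : V ≤ RelProj.emb p chart U hU ⁻¹ᵁ W), y ∈ V ∧
      ∃ τ₀ : Γ(G₁ U hU, V), g.app V τ₀ = (G₂ U hU).presheaf.map (homOfLE hV).op ((lam₂ U hU).app W s)) :
    ∃ (O : P.Opens) (hO : O ≤ W), (RelProj.emb p chart U hU).base y ∈ O ∧
      ∃ t, ut.app O t = F₂.presheaf.map (homOfLE hO).op s := by
  obtain ⟨V, hV, hy, τ₀, hτ⟩ := h
  let j := RelProj.emb p chart U hU
  have hOp : j ''ᵁ V ≤ p ⁻¹ᵁ U := (j.image_le_opensRange V).trans (opensRange_emb U hU).le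
  have hOW : j ''ᵁ V ≤ W := (j.image_mono hV).trans (j.image_preimage_le W)
  obtain ⟨t, ht⟩ := (hb₁ _ hOp).2 ((G₁ U hU).presheaf.map (homOfLE (j.preimage_image_eq V).le).op τ₀)
  refine ⟨j ''ᵁ V, hOW, ⟨y, hy, rfl⟩, t, (hb₂ _ hOp).1 ?_⟩
  have e1 : g.app (j ⁻¹ᵁ (j ''ᵁ V)) ((G₁ U hU).presheaf.map (homOfLE (j.preimage_image_eq V).le).op τ₀) =
      (G₂ U hU).presheaf.map (homOfLE (j.preimage_image_eq V).le).op (g.app V τ₀) :=
    ConcreteCategory.congr_hom (g.mapPresheaf.naturality (homOfLE (j.preimage_image_eq V).le).op) τ₀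
  have e2 : (lam₂ U hU).app (j ''ᵁ V) (F₂.presheaf.map (homOfLE hOW).op s) =
      (G₂ U hU).presheaf.map (homOfLE (j.preimage_mono hOW)).op ((lam₂ U hU).app W s) :=
    ConcreteCategory.congr_hom ((lam₂ U hU).mapPresheaf.naturality (homOfLE hOW).op) s
  rw [app_square hut, ht, e1, hτ, e2, ParaFLib.res_res]

end Groth.Agent.RelTildeLib
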