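import Groth.Agent.RelTildeLib.Fam
import Groth.Agent.GrModLib.Twist
import Groth.Agent.QCohLib.Criterion

/-! The families coming from a graded algebra and from a quasi-coherent graded module over it. -/

set_option autoImplicit false
set_option linter.style.haveILetI false
set_option backward.isDefEq.respectTransparency false

universe u

open CategoryTheory CategoryTheory.Limits AlgebraicGeometry TopologicalSpace Opposite
open scoped HomogeneousIdeal

noncomputable section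

namespace Groth.Agent.RelTildeLib

variable {Y : Scheme.{u}} (𝒮 : RelProj.QCGrAlg Y)

theorem isUnit_res_str (U : Y.Opens) (hU : IsAffineOpen U) (r : Γ(Y, U)) :
    IsUnit (𝒮.res hU (hU.basicOpen r) (Y.basicOpen_le r) ((𝒮.str.app (op U)).hom r)) := by
  letI := (𝒮.presheaf.map (homOfLE (Y.basicOpen_le r)).op).hom.toAlgebra
  haveI : IsLocalization.Away ((𝒮.str.app (op U)).hom r) (𝒮.presheaf.obj (op (Y.basicOpen r))) := 𝒮.isQC U hU r
  exact IsLocalization.Away.algebraMap_isUnit ((𝒮.str.app (op U)).hom r)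

theorem ring_surj (U : Y.Opens) (hU : IsAffineOpen U) (r : Γ(Y, U)) (b : 𝒮.presheaf.obj (op (Y.basicOpen r))) :
    ∃ (k : ℕ) (a : 𝒮.presheaf.obj (op U)), 𝒮.res hU (hU.basicOpen r) (Y.basicOpen_le r) a =
      𝒮.res hU (hU.basicOpen r) (Y.basicOpen_le r) ((𝒮.str.app (op U)).hom r ^ k) * b := by
  letI := (𝒮.presheaf.map (homOfLE (Y.basicOpen_le r)).op).hom.toAlgebra
  haveI : IsLocalization.Away ((𝒮.str.app (op U)).hom r) (𝒮.presheaf.obj (op (Y.basicOpen r))) := 𝒮.isQC U hU r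
  obtain ⟨⟨a, ⟨_, k, rfl⟩⟩, h⟩ := IsLocalization.surj (Submonoid.powers ((𝒮.str.app (op U)).hom r)) b
  exact ⟨k, a, h.symm.trans (mul_comm _ _)⟩

theorem ring_kill (U : Y.Opens) (hU : IsAffineOpen U) (r : Γ(Y, U)) (a : 𝒮.presheaf.obj (op U))
    (h : 𝒮.res hU (hU.basicOpen r) (Y.basicOpen_le r) a = 0) :
    ∃ k : ℕ, (𝒮.str.app (op U)).hom r ^ k * a = 0 := by
  letI := (𝒮.presheaf.map (homOfLE (Y.basicOpen_le r)).op).hom.toAlgebra
  haveI : IsLocalization.Away ((𝒮.str.app (op U)).hom r) (𝒮.presheaf.obj (op (Y.basicOpen r))) := 𝒮.isQC U hU r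
  obtain ⟨⟨_, k, rfl⟩, hk⟩ := (IsLocalization.map_eq_zero_iff (Submonoid.powers ((𝒮.str.app (op U)).hom r))
    (𝒮.presheaf.obj (op (Y.basicOpen r))) a).1 h
  exact ⟨k, hk⟩

variable {𝒮}

theorem res_str_pow {U V : Y.Opens} (hU : IsAffineOpen U) (hV : IsAffineOpen V) (i : V ≤ U) (r : Γ(Y, U)) (k : ℕ) :
    (𝒮.str.app (op V)).hom ((Y.presheaf.map (homOfLE i).op).hom (r ^ k)) =
      𝒮.res hU hV i ((𝒮.str.app (op U)).hom r ^ k) := by
  rw [← map_pow]
  exact congr(($(𝒮.str.naturality (homOfLE i).op)).hom (r ^ k))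

/-- The family of a quasi-coherent graded module. -/
def Fam.ofModule (ℳ : RelProj.GrModule 𝒮) (hℳ : Coh.IsQCoh ((AMod.toOS 𝒮.toQCAlg).obj ℳ.mod)) : Fam 𝒮 where
  M U _ := ℳ.mod.val.obj (op U)
  deg := ℳ.deg
  res hU hV i := ℳ.res hU hV i
  res_res {U V W} hU hV hW i j m := by
    exact (ConcreteCategory.congr_hom
      (((AMod.toOS 𝒮.toQCAlg).obj ℳ.mod).presheaf.map_comp (homOfLE i).op (homOfLE j).op) m).symm
  loc U hU r :=
    haveI := hℳ
    { mem := fun i m hm => ℳ.map_mem hU (hU.basicOpen r) (Y.basicOpen_le r) hm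
      mem_zero := 𝒮.str_mem U hU r
      isUnit := isUnit_res_str 𝒮 U hU r
      surj := fun t => by
        obtain ⟨k, s, hs⟩ := (QCohLib.locAt ((AMod.toOS 𝒮.toQCAlg).obj ℳ.mod) hU).extend r t
        refine ⟨k, s, hs.trans ?_⟩
        rw [← res_str_pow hU (hU.basicOpen r) (Y.basicOpen_le r) r k]
        rfl
      kill := fun m hm => by
        obtain ⟨k, hk⟩ := (QCohLib.locAt ((AMod.toOS 𝒮.toQCAlg).obj ℳ.mod) hU).kill r m hm
        refine ⟨k, Eq.trans ?_ hk⟩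
        rw [CohBase.sc_apply, show Y.presheaf.map (homOfLE (le_refl U)).op (r ^ k) = r ^ k from
          ConcreteCategory.congr_hom (Y.presheaf.map_id _) _, ← map_pow]
        rfl
      ring_surj := ring_surj 𝒮 U hU r }

/-- The family of the algebra itself. -/
def Fam.ofSelf (𝒮 : RelProj.QCGrAlg Y) : Fam 𝒮 where
  M U _ := 𝒮.presheaf.obj (op U)
  deg := 𝒮.deg
  res hU hV i :=
    { toFun := 𝒮.res hU hV i
      map_add' := map_add _
      map_smul' := fun a m => map_mul _ a m }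
  res_res {U V W} hU hV hW i j m :=
    congrArg (fun φ : 𝒮.deg U hU →+*ᵍ 𝒮.deg W hW => φ m) (RelProjLib.res_comp 𝒮 hU hV hW i j)
  loc U hU r :=
    { mem := fun i m hm => (𝒮.res hU (hU.basicOpen r) (Y.basicOpen_le r)).map_mem hm
      mem_zero := 𝒮.str_mem U hU r
      isUnit := isUnit_res_str 𝒮 U hU r
      surj := ring_surj 𝒮 U hU r
      kill := ring_kill 𝒮 U hU r
      ring_surj := ring_surj 𝒮 U hU r }

theorem locModMap_self {A σ B σ' : Type u} [CommRing A] [SetLike σ A] [AddSubgroupClass σ A] {𝒜 : ℕ → σ}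
    [GradedRing 𝒜] [CommRing B] [SetLike σ' B] [AddSubgroupClass σ' B] {ℬ : ℕ → σ'} [GradedRing ℬ]
    (ψ : 𝒜 →+*ᵍ ℬ) (hψ : ℬ₊ ≤ (𝒜₊).map ψ) (v : A →ₛₗ[ψ.toRingHom] B) (hv : ∀ a, v a = ψ a)
    (y : ProjectiveSpectrum ℬ) (q : GrTwist.Loc 𝒜 (ProjectiveSpectrum.comap ψ hψ y)) :
    (GrMod.locModMap ψ hψ v y q : GrTwist.Loc ℬ y) = GrTwist.locMap ψ hψ y q := by
  induction q using Localization.induction_on with
  | H z =>
    obtain ⟨a, t⟩ := z
    rw [GrTwist.locMap_mk]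
    refine (GrMod.locModMap_mk ψ hψ v y a t).trans ?_
    rw [hv]
    rfl

theorem twistToTilde_inv_val {A σ : Type u} [CommRing A] [SetLike σ A] [AddSubgroupClass σ A] (𝒜 : ℕ → σ)
    [GradedRing 𝒜] (n : ℤ) {V : (Proj 𝒜).Opens} (t : Γ(GrMod.tilde 𝒜 𝒜 n, V)) (y : V) :
    GrTwist.val ((GrModLib.twistIso 𝒜 n).inv.app V t) y = GrModLib.valAt t y := by
  rw [← GrModLib.valAt_twistToTilde]
  exact congrArg (fun z => GrModLib.valAt z y)
    (ConcreteCategory.congr_hom (congrArg (fun φ : GrMod.tilde 𝒜 𝒜 n ⟶ GrMod.tilde 𝒜 𝒜 n => φ.app V)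
      (GrModLib.twistIso 𝒜 n).inv_hom_id) t)

end Groth.Agent.RelTildeLib
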