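import Groth.Agent.RelTildeLib.Compat
import Groth.Agent.RelProjLib.Exist
import Groth.Agent.GrModLib.Twist

/-! The comparison of twisting sheaves along a morphism of relative `Proj`s. -/

set_option autoImplicit false
set_option linter.style.haveILetI false
set_option backward.isDefEq.respectTransparency false

universe u

open CategoryTheory CategoryTheory.Limits AlgebraicGeometry TopologicalSpace Opposite
open scoped HomogeneousIdeal

noncomputable section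

namespace Groth.Agent.RelTildeLib

theorem val_congr {A σ : Type u} [CommRing A] [SetLike σ A] [AddSubgroupClass σ A] {𝒜 : ℕ → σ} [GradedRing 𝒜]
    {n : ℤ} {V : (Proj 𝒜).Opens} (s : Γ(GrTwist.twist 𝒜 n, V)) {x x' : ProjectiveSpectrum 𝒜}
    (hx : x ∈ V) (hx' : x' ∈ V) (e : x = x') {m t : A} (ht : t ∉ x.asHomogeneousIdeal)
    (h : GrTwist.val s ⟨x, hx⟩ = Localization.mk m ⟨t, ht⟩) :
    GrTwist.val s ⟨x', hx'⟩ = Localization.mk m ⟨t, e ▸ ht⟩ := by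
  subst e; exact h

variable {Y PA PB : Scheme.{u}} {𝒜 ℬ : RelProj.QCGrAlg Y}
    {φ : 𝒜.toQCAlg ⟶ ℬ.toQCAlg} {hφ : RelProj.IsGradedHom φ}
    {hirr : ∀ (U : Y.Opens) (hU : IsAffineOpen U),
      (ℬ.deg U hU)₊ ≤ ((𝒜.deg U hU)₊).map (RelProj.gradedHomAt φ hφ U hU)}
    {pA : PA ⟶ Y} {pB : PB ⟶ Y}
    {chartA : ∀ (U : Y.Opens) (hU : IsAffineOpen U), (((pA ⁻¹ᵁ U : PA.Opens) : Scheme.{u}) ≅ Proj (𝒜.deg U hU))}
    {chartB : ∀ (U : Y.Opens) (hU : IsAffineOpen U), (((pB ⁻¹ᵁ U : PB.Opens) : Scheme.{u}) ≅ Proj (ℬ.deg U hU))}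
    {h : PB ⟶ PA} (hh : RelProj.IsRelProjMap φ hφ hirr chartA chartB h)

include hh in
theorem emb_comp (U : Y.Opens) (hU : IsAffineOpen U) :
    RelProj.emb pB chartB U hU ≫ h =
      Proj.map (RelProj.gradedHomAt φ hφ U hU) (hirr U hU) ≫ RelProj.emb pA chartA U hU := by
  rw [RelProj.emb, Category.assoc, hh U hU, Iso.inv_hom_id_assoc]
  rfl

include hh in
theorem comp_eq (hA : RelProj.IsRelProj 𝒜 pA chartA) (hB : RelProj.IsRelProj ℬ pB chartB) : h ≫ pA = pB := by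
  refine (PB.openCoverOfIsOpenCover (fun U : Y.affineOpens => pB ⁻¹ᵁ (U : Y.Opens))
    (eq_top_iff.2 fun x _ => ?_)).hom_ext _ _ fun (U : Y.affineOpens) => ?_
  · obtain ⟨_, ⟨V, hV, rfl⟩, hx, -⟩ :=
      Y.isBasis_affineOpens.exists_subset_of_mem_open (Set.mem_univ (pB x)) isOpen_univ
    exact Opens.mem_iSup.2 ⟨⟨V, hV⟩, hx⟩
  · show (pB ⁻¹ᵁ (U : Y.Opens)).ι ≫ h ≫ pA = (pB ⁻¹ᵁ (U : Y.Opens)).ι ≫ pB
    have hz : 𝒜.strZero U U.2 ≫ CommRingCat.ofHom (RelProjLib.zeroHom (RelProj.gradedHomAt φ hφ U U.2)) =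
        ℬ.strZero U U.2 := by
      refine CommRingCat.hom_ext (RingHom.ext fun r => Subtype.ext ?_)
      exact congr(($(φ.comm).app (op (U : Y.Opens))).hom r)
    rw [reassoc_of% (hh U U.2), ← hA.chart_over U U.2, ← hB.chart_over U U.2, Iso.inv_hom_id_assoc,
      reassoc_of% RelProjLib.map_toSpecZero, ← Spec.map_comp_assoc, hz]

variable (chartA) (hirr) in
/-- The twisting sheaf of `ℬ(U)`, on `Proj 𝒜(U)`. -/
def pushTwist (n : ℤ) (U : Y.Opens) (hU : IsAffineOpen U) : (Proj (𝒜.deg U hU)).Modules :=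
  (Scheme.Modules.pushforward (Proj.map (RelProj.gradedHomAt φ hφ U hU) (hirr U hU))).obj
    (GrTwist.twist (ℬ.deg U hU) n)

variable {n : ℤ} {LA : PA.Modules} {LB : PB.Modules}

/-- The reading of `LA` on `Proj 𝒜(U)`, pushed to the twisting sheaf of `ℬ(U)`. -/
def lamL (lamA : ∀ (U : Y.Opens) (hU : IsAffineOpen U),
      LA ⟶ (Scheme.Modules.pushforward (RelProj.emb pA chartA U hU)).obj (GrTwist.twist (𝒜.deg U hU) n))
    (U : Y.Opens) (hU : IsAffineOpen U) :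
    LA ⟶ (Scheme.Modules.pushforward (RelProj.emb pA chartA U hU)).obj (pushTwist hirr n U hU) :=
  lamA U hU ≫ (Scheme.Modules.pushforward (RelProj.emb pA chartA U hU)).map
    (GrTwist.comap (RelProj.gradedHomAt φ hφ U hU) (hirr U hU) n)

/-- The reading of `h_* LB` on `Proj 𝒜(U)`. -/
def lamR (lamB : ∀ (U : Y.Opens) (hU : IsAffineOpen U),
      LB ⟶ (Scheme.Modules.pushforward (RelProj.emb pB chartB U hU)).obj (GrTwist.twist (ℬ.deg U hU) n))
    (U : Y.Opens) (hU : IsAffineOpen U) :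
    (Scheme.Modules.pushforward h).obj LB ⟶
      (Scheme.Modules.pushforward (RelProj.emb pA chartA U hU)).obj (pushTwist hirr n U hU) :=
  (Scheme.Modules.pushforward h).map (lamB U hU) ≫
    (Scheme.Modules.pushforwardComp (RelProj.emb pB chartB U hU) h).hom.app _ ≫
    (Scheme.Modules.pushforwardCongr (emb_comp hh U hU)).hom.app _ ≫
    (Scheme.Modules.pushforwardComp (Proj.map (RelProj.gradedHomAt φ hφ U hU) (hirr U hU))
      (RelProj.emb pA chartA U hU)).inv.app _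

variable {lamA : ∀ (U : Y.Opens) (hU : IsAffineOpen U),
      LA ⟶ (Scheme.Modules.pushforward (RelProj.emb pA chartA U hU)).obj (GrTwist.twist (𝒜.deg U hU) n)}
  {lamB : ∀ (U : Y.Opens) (hU : IsAffineOpen U),
      LB ⟶ (Scheme.Modules.pushforward (RelProj.emb pB chartB U hU)).obj (GrTwist.twist (ℬ.deg U hU) n)}

theorem mem_of_mem {U : Y.Opens} {hU : IsAffineOpen U} {W : PA.Opens} {y : Proj (ℬ.deg U hU)}
    (hh : RelProj.IsRelProjMap φ hφ hirr chartA chartB h)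
    (hy : y ∈ Proj.map (RelProj.gradedHomAt φ hφ U hU) (hirr U hU) ⁻¹ᵁ RelProj.emb pA chartA U hU ⁻¹ᵁ W) :
    y ∈ RelProj.emb pB chartB U hU ⁻¹ᵁ (h ⁻¹ᵁ W) := by
  rw [← Scheme.Hom.comp_preimage, emb_comp hh U hU]
  exact hy

theorem lamR_val (U : Y.Opens) (hU : IsAffineOpen U) (W : PA.Opens) (t : Γ(LB, h ⁻¹ᵁ W)) (y : Proj (ℬ.deg U hU))
    (hy : y ∈ Proj.map (RelProj.gradedHomAt φ hφ U hU) (hirr U hU) ⁻¹ᵁ RelProj.emb pA chartA U hU ⁻¹ᵁ W) :
    GrTwist.val (V := Proj.map (RelProj.gradedHomAt φ hφ U hU) (hirr U hU) ⁻¹ᵁ RelProj.emb pA chartA U hU ⁻¹ᵁ W)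
        ((lamR hh lamB U hU).app W t) ⟨y, hy⟩ =
      GrTwist.val (V := RelProj.emb pB chartB U hU ⁻¹ᵁ (h ⁻¹ᵁ W)) ((lamB U hU).app (h ⁻¹ᵁ W) t)
        ⟨y, mem_of_mem hh hy⟩ := by
  rfl

theorem lamL_val (U : Y.Opens) (hU : IsAffineOpen U) (W : PA.Opens) (s : Γ(LA, W)) (y : Proj (ℬ.deg U hU))
    (hy : y ∈ Proj.map (RelProj.gradedHomAt φ hφ U hU) (hirr U hU) ⁻¹ᵁ RelProj.emb pA chartA U hU ⁻¹ᵁ W) :
    GrTwist.val (V := Proj.map (RelProj.gradedHomAt φ hφ U hU) (hirr U hU) ⁻¹ᵁ RelProj.emb pA chartA U hU ⁻¹ᵁ W)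
        ((lamL (hirr := hirr) lamA U hU).app W s) ⟨y, hy⟩ =
      GrTwist.locMap (RelProj.gradedHomAt φ hφ U hU) (hirr U hU) y
        (GrTwist.val (V := RelProj.emb pA chartA U hU ⁻¹ᵁ W) ((lamA U hU).app W s)
          ⟨ProjectiveSpectrum.comap (RelProj.gradedHomAt φ hφ U hU) (hirr U hU) y, hy⟩) := by
  rfl

theorem sameAt_map (hA : RelProj.IsRelProj 𝒜 pA chartA) (hB : RelProj.IsRelProj ℬ pB chartB)
    (hLA : RelProj.IsRelTwist 𝒜 pA chartA n LA lamA) (hLB : RelProj.IsRelTwist ℬ pB chartB n LB lamB)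
    (U : Y.Opens) (hU : IsAffineOpen U) (r : Γ(Y, U)) (W : PA.Opens) (s : Γ(LA, W))
    (t : Γ((Scheme.Modules.pushforward h).obj LB, W))
    (hst : SameAt (lamL (hirr := hirr) lamA) (lamR hh lamB) U hU s t) :
    SameAt (lamL (hirr := hirr) lamA) (lamR hh lamB) (Y.basicOpen r) (hU.basicOpen r) s t := by
  refine Subtype.ext (funext fun y => Subtype.ext ?_)
  obtain ⟨y, hy⟩ := y
  refine (lamR_val hh (Y.basicOpen r) (hU.basicOpen r) W t y hy).trans ?_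
  refine Eq.trans ?_ (lamL_val (lamA := lamA) (Y.basicOpen r) (hU.basicOpen r) W s y hy).symm
  have hyB : (RelProj.emb pB chartB U hU).base (ProjectiveSpectrum.comap
      (ℬ.res hU (hU.basicOpen r) (Y.basicOpen_le r)) (ℬ.irrelevant_le_map U hU r) y) ∈ h ⁻¹ᵁ W := by
    rw [emb_comap hB U hU r y]
    exact mem_of_mem hh hy
  have hyA : (RelProj.emb pA chartA U hU).base (ProjectiveSpectrum.comap
      (𝒜.res hU (hU.basicOpen r) (Y.basicOpen_le r)) (𝒜.irrelevant_le_map U hU r)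
      (ProjectiveSpectrum.comap (RelProj.gradedHomAt φ hφ _ (hU.basicOpen r)) (hirr _ (hU.basicOpen r)) y)) ∈ W := by
    rw [emb_comap hA U hU r]
    exact hy
  set y₂ := ProjectiveSpectrum.comap (ℬ.res hU (hU.basicOpen r) (Y.basicOpen_le r)) (ℬ.irrelevant_le_map U hU r) y
  have hy₂ : y₂ ∈ Proj.map (RelProj.gradedHomAt φ hφ U hU) (hirr U hU) ⁻¹ᵁ RelProj.emb pA chartA U hU ⁻¹ᵁ W := by
    have := hyB
    change y₂ ∈ RelProj.emb pB chartB U hU ⁻¹ᵁ (h ⁻¹ᵁ W) at this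
    rw [← Scheme.Hom.comp_preimage, emb_comp hh U hU] at this
    exact this
  have hnat : ∀ a, RelProj.gradedHomAt φ hφ _ (hU.basicOpen r) (𝒜.res hU (hU.basicOpen r) (Y.basicOpen_le r) a) =
      ℬ.res hU (hU.basicOpen r) (Y.basicOpen_le r) (RelProj.gradedHomAt φ hφ U hU a) := fun a =>
    congr(($(φ.hom.naturality (homOfLE (Y.basicOpen_le r)).op)).hom a)
  have e : ProjectiveSpectrum.comap (RelProj.gradedHomAt φ hφ U hU) (hirr U hU) y₂ =
      ProjectiveSpectrum.comap (𝒜.res hU (hU.basicOpen r) (Y.basicOpen_le r)) (𝒜.irrelevant_le_map U hU r)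
      (ProjectiveSpectrum.comap (RelProj.gradedHomAt φ hφ _ (hU.basicOpen r)) (hirr _ (hU.basicOpen r)) y) := by
    refine ProjectiveSpectrum.ext (HomogeneousIdeal.ext (Ideal.ext fun a => ?_))
    show ℬ.res hU (hU.basicOpen r) (Y.basicOpen_le r) (RelProj.gradedHomAt φ hφ U hU a) ∈ y.asHomogeneousIdeal ↔
      RelProj.gradedHomAt φ hφ _ (hU.basicOpen r) (𝒜.res hU (hU.basicOpen r) (Y.basicOpen_le r) a) ∈ y.asHomogeneousIdeal
    rw [hnat]
  rw [hLA.compat U hU r W s (ProjectiveSpectrum.comap (RelProj.gradedHomAt φ hφ _ (hU.basicOpen r))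
    (hirr _ (hU.basicOpen r)) y) hy hyA, hLB.compat U hU r (h ⁻¹ᵁ W) t y (mem_of_mem hh hy) hyB]
  have hU' := congrArg (fun z => GrTwist.val
    (V := Proj.map (RelProj.gradedHomAt φ hφ U hU) (hirr U hU) ⁻¹ᵁ RelProj.emb pA chartA U hU ⁻¹ᵁ W) z ⟨y₂, hy₂⟩) hst
  have hU'' := (lamR_val hh U hU W t y₂ hy₂).symm.trans (hU'.trans (lamL_val (lamA := lamA) U hU W s y₂ hy₂))
  obtain ⟨i, j, m, a, ha, -, hq⟩ := GrModLib.exists_rep ((GrModLib.twistAt_eq (𝒜.deg U hU) n _ _).1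
    (((((lamA U hU).app W s) : GrTwist.sectN (𝒜 := 𝒜.deg U hU) n
      (op (RelProj.emb pA chartA U hU ⁻¹ᵁ W)))).1
        ⟨ProjectiveSpectrum.comap (RelProj.gradedHomAt φ hφ U hU) (hirr U hU) y₂, hy₂⟩).2)
  have hq' : GrTwist.val (V := RelProj.emb pA chartA U hU ⁻¹ᵁ W) ((lamA U hU).app W s)
      ⟨ProjectiveSpectrum.comap (RelProj.gradedHomAt φ hφ U hU) (hirr U hU) y₂, hy₂⟩ =
      Localization.mk m.1 ⟨a.1, ha⟩ := hq
  rw [hU'', hq', val_congr (V := RelProj.emb pA chartA U hU ⁻¹ᵁ W) ((lamA U hU).app W s)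
    (x := ProjectiveSpectrum.comap (RelProj.gradedHomAt φ hφ U hU) (hirr U hU) y₂) hy₂ hyA e ha hq', GrTwist.locMap_mk, GrTwist.locMap_mk, GrTwist.locMap_mk,
    GrTwist.locMap_mk]
  exact congr (congrArg Localization.mk (hnat m.1).symm) (Subtype.ext (hnat a.1).symm)

theorem lamR_bijective (hA : RelProj.IsRelProj 𝒜 pA chartA) (hB : RelProj.IsRelProj ℬ pB chartB)
    (hLB : RelProj.IsRelTwist ℬ pB chartB n LB lamB) (U : Y.Opens) (hU : IsAffineOpen U) (W : PA.Opens)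
    (hW : W ≤ pA ⁻¹ᵁ U) : Function.Bijective ((lamR (hirr := hirr) (chartA := chartA) hh lamB U hU).app W) := by
  have hW' : h ⁻¹ᵁ W ≤ pB ⁻¹ᵁ U := by
    rw [← comp_eq hh hA hB, Scheme.Hom.comp_preimage]
    exact h.preimage_mono hW
  have hg : Function.Bijective
      (((Scheme.Modules.pushforwardComp (RelProj.emb pB chartB U hU) h).hom.app (GrTwist.twist (ℬ.deg U hU) n) ≫
        (Scheme.Modules.pushforwardCongr (emb_comp hh U hU)).hom.app _ ≫
        (Scheme.Modules.pushforwardComp (Proj.map (RelProj.gradedHomAt φ hφ U hU) (hirr U hU))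
          (RelProj.emb pA chartA U hU)).inv.app _).app W) := ConcreteCategory.bijective_of_isIso _
  exact hg.comp (hLB.bijective U hU (h ⁻¹ᵁ W) hW')

end Groth.Agent.RelTildeLib
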