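import Groth.Agent.RelTildeLib.Restrict
import Groth.Agent.GrModLib.Twist
import Groth.Agent.GrModLib.Zero
import Groth.Prelude.Def_RelProj3

/-! Twisting sheaves and sheaves of graded modules on a relative `Proj`, chart by chart. -/

set_option autoImplicit false
set_option linter.style.haveILetI false
set_option backward.isDefEq.respectTransparency false

universe u

open CategoryTheory CategoryTheory.Limits AlgebraicGeometry TopologicalSpace Opposite
open Groth.Agent.ParaFLib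
open scoped HomogeneousIdeal

noncomputable section

namespace Groth.Agent.RelTildeLib

theorem irrelevant_eq_span_one {A σ : Type u} [CommRing A] [SetLike σ A] [AddSubgroupClass σ A] {𝒜 : ℕ → σ}
    [GradedRing 𝒜] (hgen : Subring.closure ((𝒜 0 : Set A) ∪ (𝒜 1 : Set A)) = ⊤) :
    (HomogeneousIdeal.irrelevant 𝒜).toIdeal = Ideal.span (𝒜 1 : Set A) := by
  classical
  refine le_antisymm (fun x hx => ?_)
    (Ideal.span_le.2 fun g hg => HomogeneousIdeal.mem_irrelevant_of_mem 𝒜 one_pos hg)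
  have h : ∀ z : A, z ∈ Subring.closure ((𝒜 0 : Set A) ∪ (𝒜 1 : Set A)) →
      ∃ c, c ∈ 𝒜 0 ∧ z - c ∈ Ideal.span (𝒜 1 : Set A) := by
    intro z hz
    induction hz using Subring.closure_induction with
    | mem z hz =>
      rcases hz with hz | hz
      · exact ⟨z, hz, by simp⟩
      · exact ⟨0, zero_mem _, by simpa using Ideal.subset_span hz⟩
    | zero => exact ⟨0, zero_mem _, by simp⟩
    | one => exact ⟨1, SetLike.GradedOne.one_mem, by simp⟩
    | add a b _ _ ha hb =>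
      obtain ⟨c, hc, ha⟩ := ha
      obtain ⟨d, hd, hb⟩ := hb
      exact ⟨c + d, add_mem hc hd, by rw [add_sub_add_comm]; exact add_mem ha hb⟩
    | neg a _ ha =>
      obtain ⟨c, hc, ha⟩ := ha
      exact ⟨-c, neg_mem hc, by rw [← neg_sub', Ideal.neg_mem_iff]; exact ha⟩
    | mul a b _ _ ha hb =>
      obtain ⟨c, hc, ha⟩ := ha
      obtain ⟨d, hd, hb⟩ := hb
      exact ⟨c * d, by simpa using SetLike.mul_mem_graded hc hd,
        by rw [show a * b - c * d = (a - c) * b + c * (b - d) by ring]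
           exact add_mem (Ideal.mul_mem_right _ _ ha) (Ideal.mul_mem_left _ _ hb)⟩
  obtain ⟨c, hc, hxc⟩ := h x (hgen ▸ Subring.mem_top x)
  have hirr : x - c ∈ (HomogeneousIdeal.irrelevant 𝒜).toIdeal :=
    Ideal.span_le.2 (fun g hg => HomogeneousIdeal.mem_irrelevant_of_mem 𝒜 one_pos hg) hxc
  have h1 : c ∈ (HomogeneousIdeal.irrelevant 𝒜).toIdeal := by simpa using sub_mem hx hirr
  have h2 : c = 0 := by
    have := (HomogeneousIdeal.mem_irrelevant_iff 𝒜 _).1 h1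
    rwa [GradedRing.proj_apply, DirectSum.decompose_of_mem_same 𝒜 hc] at this
  rwa [h2, sub_zero] at hxc

variable {Y P : Scheme.{u}} {𝒮 : RelProj.QCGrAlg Y} {p : P ⟶ Y}
  {chart : ∀ (U : Y.Opens) (hU : IsAffineOpen U), (((p ⁻¹ᵁ U : P.Opens) : Scheme.{u}) ≅ Proj (𝒮.deg U hU))}

theorem opensRange_emb (U : Y.Opens) (hU : IsAffineOpen U) :
    (RelProj.emb p chart U hU).opensRange = p ⁻¹ᵁ U :=
  (Scheme.Hom.opensRange_comp_of_isIso (chart U hU).inv (p ⁻¹ᵁ U).ι).trans (Scheme.Opens.opensRange_ι _)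

variable (chart) in
theorem exists_mem_opensRange (x : P) :
    ∃ a : {U : Y.Opens // IsAffineOpen U}, x ∈ (RelProj.emb p chart a.1 a.2).opensRange := by
  obtain ⟨_, ⟨V, hV, rfl⟩, hx, -⟩ :=
    Y.isBasis_affineOpens.exists_subset_of_mem_open (Set.mem_univ (p x)) isOpen_univ
  exact ⟨⟨V, hV⟩, (opensRange_emb V hV).ge hx⟩

theorem bij_range {L : P.Modules} {G : ∀ (U : Y.Opens) (hU : IsAffineOpen U), (Proj (𝒮.deg U hU)).Modules}
    {lam : ∀ (U : Y.Opens) (hU : IsAffineOpen U),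
      L ⟶ (Scheme.Modules.pushforward (RelProj.emb p chart U hU)).obj (G U hU)}
    (h : ∀ (U : Y.Opens) (hU : IsAffineOpen U) (W : P.Opens), W ≤ p ⁻¹ᵁ U → Function.Bijective ((lam U hU).app W))
    (U : Y.Opens) (hU : IsAffineOpen U) (W : P.Opens) (hW : W ≤ (RelProj.emb p chart U hU).opensRange) :
    Function.Bijective ((lam U hU).app W) :=
  h U hU W (hW.trans (opensRange_emb U hU).le)

theorem isQCoh_of_charts {L : P.Modules} {G : ∀ (U : Y.Opens) (hU : IsAffineOpen U), (Proj (𝒮.deg U hU)).Modules}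
    {lam : ∀ (U : Y.Opens) (hU : IsAffineOpen U),
      L ⟶ (Scheme.Modules.pushforward (RelProj.emb p chart U hU)).obj (G U hU)}
    (h : ∀ (U : Y.Opens) (hU : IsAffineOpen U) (W : P.Opens), W ≤ p ⁻¹ᵁ U → Function.Bijective ((lam U hU).app W))
    (hG : ∀ (U : Y.Opens) (hU : IsAffineOpen U), Coh.IsQCoh (G U hU)) : Coh.IsQCoh L :=
  isQCoh_of_cover _ (fun a : {U : Y.Opens // IsAffineOpen U} => RelProj.emb p chart a.1 a.2)
    (exists_mem_opensRange chart) fun a => isQCoh_restrict _ (lam a.1 a.2) (bij_range h a.1 a.2) (hG a.1 a.2)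

theorem isInvertible_of_charts {L : P.Modules} {G : ∀ (U : Y.Opens) (hU : IsAffineOpen U), (Proj (𝒮.deg U hU)).Modules}
    {lam : ∀ (U : Y.Opens) (hU : IsAffineOpen U),
      L ⟶ (Scheme.Modules.pushforward (RelProj.emb p chart U hU)).obj (G U hU)}
    (h : ∀ (U : Y.Opens) (hU : IsAffineOpen U) (W : P.Opens), W ≤ p ⁻¹ᵁ U → Function.Bijective ((lam U hU).app W))
    (hG : ∀ (U : Y.Opens) (hU : IsAffineOpen U) (y : Proj (𝒮.deg U hU)),
      ∃ (V : (Proj (𝒮.deg U hU)).Opens) (u : Γ(G U hU, V)), y ∈ V ∧ Gen V u) : PicF.IsInvertible L := fun x => by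
  obtain ⟨⟨U, hU⟩, hx⟩ := exists_mem_opensRange chart x
  obtain ⟨y, rfl⟩ := hx
  obtain ⟨V, u, hy, hu⟩ := hG U hU y
  obtain ⟨s, hs⟩ := exists_gen_image _ (lam U hU) (bij_range h U hU) hu
  refine ⟨RelProj.emb p chart U hU ''ᵁ V, ?_, nonempty_iso_of_gen hs⟩
  exact ⟨y, hy, rfl⟩

theorem isZero_of_charts {L : P.Modules} {G : ∀ (U : Y.Opens) (hU : IsAffineOpen U), (Proj (𝒮.deg U hU)).Modules}
    {lam : ∀ (U : Y.Opens) (hU : IsAffineOpen U),
      L ⟶ (Scheme.Modules.pushforward (RelProj.emb p chart U hU)).obj (G U hU)}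
    (h : ∀ (U : Y.Opens) (hU : IsAffineOpen U) (W : P.Opens), W ≤ p ⁻¹ᵁ U → Function.Bijective ((lam U hU).app W))
    (hG : ∀ (U : Y.Opens) (hU : IsAffineOpen U), IsZero (G U hU)) : IsZero L := by
  rw [IsZero.iff_id_eq_zero]
  refine Scheme.Modules.hom_ext _ _ fun W => ConcreteCategory.hom_ext _ _ fun s => ?_
  refine TopCat.Sheaf.eq_of_locally_eq' (⟨L.presheaf, L.isSheaf⟩ : TopCat.Sheaf Ab.{u} P.carrier)
    (fun a : {U : Y.Opens // IsAffineOpen U} => W ⊓ p ⁻¹ᵁ a.1) W (fun _ => homOfLE inf_le_left)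
    (fun x hx => ?_) _ _ fun a => ?_
  · obtain ⟨a, ha⟩ := exists_mem_opensRange chart x
    exact Opens.mem_iSup.2 ⟨a, hx, (opensRange_emb a.1 a.2).le ha⟩
  · refine (h a.1 a.2 _ inf_le_right).1 ?_
    have := congrArg (fun φ : G a.1 a.2 ⟶ G a.1 a.2 => φ.app (RelProj.emb p chart a.1 a.2 ⁻¹ᵁ (W ⊓ p ⁻¹ᵁ a.1)))
      ((IsZero.iff_id_eq_zero _).1 (hG a.1 a.2))
    have hz : ∀ z : Γ(G a.1 a.2, RelProj.emb p chart a.1 a.2 ⁻¹ᵁ (W ⊓ p ⁻¹ᵁ a.1)), z = 0 := fun z =>
      ConcreteCategory.congr_hom this z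
    exact (hz _).trans (hz _).symm

end Groth.Agent.RelTildeLib
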