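import Groth.Agent.RelTildeLib.Pair

/-! Multiplication of relative twisting sheaves and their action on relative module sheaves. -/

set_option autoImplicit false
set_option linter.style.haveILetI false
set_option backward.isDefEq.respectTransparency false

universe u

open CategoryTheory CategoryTheory.Limits AlgebraicGeometry TopologicalSpace Opposite
open Groth.Agent.ParaFLib Groth.Agent.PullbackMod Groth.Agent.DCohLib
open scoped HomogeneousIdeal

noncomputable section

namespace Groth.Agent.RelTildeLib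

variable {Y P : Scheme.{u}} {𝒮 : RelProj.QCGrAlg Y} {p : P ⟶ Y}
  {chart : ∀ (U : Y.Opens) (hU : IsAffineOpen U), (((p ⁻¹ᵁ U : P.Opens) : Scheme.{u}) ≅ Proj (𝒮.deg U hU))}
  {m n k : ℤ} {L L' L'' : P.Modules}

section mul

variable {lam : ∀ (U : Y.Opens) (hU : IsAffineOpen U),
    L ⟶ (Scheme.Modules.pushforward (RelProj.emb p chart U hU)).obj (GrTwist.twist (𝒮.deg U hU) m)}
  {lam' : ∀ (U : Y.Opens) (hU : IsAffineOpen U),
    L' ⟶ (Scheme.Modules.pushforward (RelProj.emb p chart U hU)).obj (GrTwist.twist (𝒮.deg U hU) n)}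
  {lam'' : ∀ (U : Y.Opens) (hU : IsAffineOpen U),
    L'' ⟶ (Scheme.Modules.pushforward (RelProj.emb p chart U hU)).obj (GrTwist.twist (𝒮.deg U hU) k)}

/-- The multiplication of relative twisting sheaves. -/
def mulData (hP : RelProj.IsRelProj 𝒮 p chart) (h : m + n = k) (hL : RelProj.IsRelTwist 𝒮 p chart m L lam)
    (hL' : RelProj.IsRelTwist 𝒮 p chart n L' lam') (hL'' : RelProj.IsRelTwist 𝒮 p chart k L'' lam'') :
    PairData p chart m (fun U hU => GrTwist.twist (𝒮.deg U hU) n) (fun U hU => GrTwist.twist (𝒮.deg U hU) k)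
      L L' L'' where
  lamL := lam
  lam := lam'
  lam' := lam''
  pair U hU := GrModLib.mulPairing (𝒮.deg U hU) m n k h
  bijL := hL.bijective
  bij := hL'.bijective
  bij' := hL''.bijective
  compat U hU r W s t u hu := by
    refine Subtype.ext (funext fun y => Subtype.ext ?_)
    have hy' : (RelProj.emb p chart U hU).base (ProjectiveSpectrum.comap
        (𝒮.res hU (hU.basicOpen r) (Y.basicOpen_le r)) (𝒮.irrelevant_le_map U hU r) y.1) ∈ W := by
      rw [emb_comap hP U hU r y.1]
      exact y.2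
    refine (hL''.compat U hU r W u y.1 y.2 hy').trans (Eq.trans ?_ (GrModLib.val_mulPairing h _ _ y).symm)
    rw [hu, GrModLib.val_mulPairing, map_mul]
    exact congrArg₂ (· * ·) (hL.compat U hU r W s y.1 y.2 hy').symm (hL'.compat U hU r W t y.1 y.2 hy').symm

theorem bijective_stalk_mul (hP : RelProj.IsRelProj 𝒮 p chart) (h : m + n = k)
    (hL : RelProj.IsRelTwist 𝒮 p chart m L lam) (hL' : RelProj.IsRelTwist 𝒮 p chart n L' lam')
    (hL'' : RelProj.IsRelTwist 𝒮 p chart k L'' lam'') {U : Y.Opens} {hU : IsAffineOpen U}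
    {y : Proj (𝒮.deg U hU)} (hy : GrModLib.HasUnit (𝒮.deg U hU) m y) :
    Function.Bijective (stalkLin (mulData hP h hL hL' hL'').pairing.lift ((RelProj.emb p chart U hU).base y)) :=
  (mulData hP h hL hL' hL'').bijective_stalk U hU y
    (fun i j a s he O hs ha => by
      show Function.Bijective (fun g => (GrModLib.twistIso (𝒮.deg U hU) k).inv.app O
        (GrModLib.actS h (GrModLib.fracT (𝒮.deg U hU) a s m he hs) ((GrModLib.twistToTilde (𝒮.deg U hU) n).app O g)))
      exact (ConcreteCategory.bijective_of_isIso ((GrModLib.twistIso (𝒮.deg U hU) k).inv.app O)).comp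
        ((GrModLib.actS_frac_bijective a s h he hs ha).comp
          (ConcreteCategory.bijective_of_isIso ((GrModLib.twistToTilde (𝒮.deg U hU) n).app O)))) hy

end mul

section act

variable {ℳ : RelProj.GrModule 𝒮} {F F' : P.Modules}
  {lamL : ∀ (U : Y.Opens) (hU : IsAffineOpen U),
    L ⟶ (Scheme.Modules.pushforward (RelProj.emb p chart U hU)).obj (GrTwist.twist (𝒮.deg U hU) m)}
  {lam : ∀ (U : Y.Opens) (hU : IsAffineOpen U),
    F ⟶ (Scheme.Modules.pushforward (RelProj.emb p chart U hU)).obj (GrMod.tilde (𝒮.deg U hU) (ℳ.deg U hU) n)}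
  {lam' : ∀ (U : Y.Opens) (hU : IsAffineOpen U),
    F' ⟶ (Scheme.Modules.pushforward (RelProj.emb p chart U hU)).obj (GrMod.tilde (𝒮.deg U hU) (ℳ.deg U hU) k)}

/-- The action of a relative twisting sheaf on a relative module sheaf. -/
def actData (hP : RelProj.IsRelProj 𝒮 p chart) (h : m + n = k) (hL : RelProj.IsRelTwist 𝒮 p chart m L lamL)
    (hF : RelProj.IsRelTilde 𝒮 p chart ℳ n F lam) (hF' : RelProj.IsRelTilde 𝒮 p chart ℳ k F' lam') :
    PairData p chart m (fun U hU => GrMod.tilde (𝒮.deg U hU) (ℳ.deg U hU) n)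
      (fun U hU => GrMod.tilde (𝒮.deg U hU) (ℳ.deg U hU) k) L F F' where
  lamL := lamL
  lam := lam
  lam' := lam'
  pair U hU := GrModLib.actPairing (𝒮.deg U hU) (ℳ.deg U hU) m n k h
  bijL := hL.bijective
  bij := hF.bijective
  bij' := hF'.bijective
  compat U hU r W s t u hu := by
    refine GrModLib.sect_ext fun y => ?_
    have hy' : (RelProj.emb p chart U hU).base (ProjectiveSpectrum.comap
        (𝒮.res hU (hU.basicOpen r) (Y.basicOpen_le r)) (𝒮.irrelevant_le_map U hU r) y.1) ∈ W := by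
      rw [emb_comap hP U hU r y.1]
      exact y.2
    refine (hF'.compat U hU r W u y.1 y.2 hy').trans ?_
    rw [hu]
    refine (GrMod.locModMap_smul (𝒮.res hU (hU.basicOpen r) (Y.basicOpen_le r)) (𝒮.irrelevant_le_map U hU r)
      (ℳ.res hU (hU.basicOpen r) (Y.basicOpen_le r)) y.1 _ _).trans ?_
    exact congrArg₂ (· • ·) (hL.compat U hU r W s y.1 y.2 hy').symm (hF.compat U hU r W t y.1 y.2 hy').symm

theorem bijective_stalk_act (hP : RelProj.IsRelProj 𝒮 p chart) (h : m + n = k)
    (hL : RelProj.IsRelTwist 𝒮 p chart m L lamL) (hF : RelProj.IsRelTilde 𝒮 p chart ℳ n F lam)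
    (hF' : RelProj.IsRelTilde 𝒮 p chart ℳ k F' lam') {U : Y.Opens} {hU : IsAffineOpen U}
    {y : Proj (𝒮.deg U hU)} (hy : GrModLib.HasUnit (𝒮.deg U hU) m y) :
    Function.Bijective (stalkLin (actData hP h hL hF hF').pairing.lift ((RelProj.emb p chart U hU).base y)) :=
  (actData hP h hL hF hF').bijective_stalk U hU y
    (fun i j a s he O hs ha => GrModLib.actS_frac_bijective a s h he hs ha) hy

end act

theorem hasUnit_of_isGenDegOne (hgen : 𝒮.IsGenDegOne) (U : Y.Opens) (hU : IsAffineOpen U)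
    (y : Proj (𝒮.deg U hU)) (n : ℤ) : GrModLib.HasUnit (𝒮.deg U hU) n y :=
  GrModLib.hasUnit_of_span (irrelevant_eq_span_one (hgen U hU)) y n

end Groth.Agent.RelTildeLib
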