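import Groth.Agent.RelTildeLib.PairInst
import Groth.Agent.GrModLib.Lift
import Groth.Agent.AmpleLib.Rel

/-! Twisting sheaves with units on a quasi-compact open. -/

set_option autoImplicit false
set_option linter.style.haveILetI false
set_option backward.isDefEq.respectTransparency false

universe u

open CategoryTheory CategoryTheory.Limits AlgebraicGeometry TopologicalSpace Opposite
open Groth.Agent.ParaFLib Groth.Agent.PullbackMod
open scoped HomogeneousIdeal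

noncomputable section

namespace Groth.Agent.RelTildeLib

variable {Y P : Scheme.{u}} {𝒮 : RelProj.QCGrAlg Y} {p : P ⟶ Y}
  {chart : ∀ (U : Y.Opens) (hU : IsAffineOpen U), (((p ⁻¹ᵁ U : P.Opens) : Scheme.{u}) ≅ Proj (𝒮.deg U hU))}

theorem one_mem_zero {U : Y.Opens} (hU : IsAffineOpen U) :
    (1 : 𝒮.presheaf.obj (op U)) ∈ 𝒮.deg U hU 0 := SetLike.GradedOne.one_mem

theorem le_basicOpen_one {U : Y.Opens} (hU : IsAffineOpen U) (V : (Proj (𝒮.deg U hU)).Opens) :
    V ≤ Proj.basicOpen (𝒮.deg U hU) (⟨1, one_mem_zero hU⟩ : 𝒮.deg U hU 0).1 :=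
  fun z _ h => z.isPrime.ne_top ((Ideal.eq_top_iff_one _).2 h)

/-- `O(0)` is generated by a global section. -/
theorem exists_gen_top (hP : RelProj.IsRelProj 𝒮 p chart) {L : P.Modules}
    {lam : ∀ (U : Y.Opens) (hU : IsAffineOpen U),
      L ⟶ (Scheme.Modules.pushforward (RelProj.emb p chart U hU)).obj (GrTwist.twist (𝒮.deg U hU) 0)}
    (hL : RelProj.IsRelTwist 𝒮 p chart 0 L lam) : ∃ T : Γ(L, ⊤), Gen ⊤ T := by
  let one : ∀ (U : Y.Opens) (hU : IsAffineOpen U), 𝒮.deg U hU 0 := fun U hU => ⟨1, one_mem_zero hU⟩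
  let σ : ∀ (U : Y.Opens) (hU : IsAffineOpen U),
      Γ(GrTwist.twist (𝒮.deg U hU) 0, RelProj.emb p chart U hU ⁻¹ᵁ ⊤) := fun U hU =>
    GrModLib.fracT (𝒮.deg U hU) (one U hU) (one U hU) 0 (by simp) (le_basicOpen_one hU _)
  obtain ⟨T, hT⟩ := exists_section (lam' := lam) hL.bijective σ fun U hU r W' hW t h => by
    refine Subtype.ext (funext fun y => Subtype.ext ?_)
    have hy' : (RelProj.emb p chart U hU).base (ProjectiveSpectrum.comap
        (𝒮.res hU (hU.basicOpen r) (Y.basicOpen_le r)) (𝒮.irrelevant_le_map U hU r) y.1) ∈ W' := by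
      rw [emb_comap hP U hU r y.1]
      exact y.2
    refine (hL.compat U hU r W' t y.1 y.2 hy').trans ?_
    rw [show (lam U hU).app W' t = _ from h]
    refine (GrTwist.locMap_mk _ _ _ _ _).trans ?_
    refine Localization.mk_eq_mk_iff.2 (Localization.r_iff_exists.2 ⟨1, ?_⟩)
    show _ * (_ * (𝒮.res hU (hU.basicOpen r) (Y.basicOpen_le r)) (1 : 𝒮.presheaf.obj (op U))) =
      _ * ((𝒮.res hU (hU.basicOpen r) (Y.basicOpen_le r)) (1 : 𝒮.presheaf.obj (op U)) * 1)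
    simp [one]
  refine ⟨T, gen_of_cover fun x _ => ?_⟩
  obtain ⟨⟨U, hU⟩, y, rfl⟩ := exists_mem_opensRange chart x
  refine ⟨(RelProj.emb p chart U hU).opensRange, le_top, ⟨y, rfl⟩,
    gen_of_chart (RelProj.emb p chart U hU) (lam U hU)
      (fun O hO => hL.bijective U hU O (hO.trans (opensRange_emb U hU).le)) le_rfl ?_⟩
  have hres : (lam U hU).app (RelProj.emb p chart U hU).opensRange (L.presheaf.map (homOfLE le_top).op T) =
      GrModLib.fracT (𝒮.deg U hU) (one U hU) (one U hU) 0 (by simp) (le_basicOpen_one hU _) :=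
    (hT U hU).res le_top
  rw [hres]
  exact GrModLib.gen_fracT _ _ 0 _ _ (le_basicOpen_one hU _)

theorem app_bijective_of_stalk {X : Scheme.{u}} {M N : X.Modules} (φ : M ⟶ N) {U : X.Opens}
    (h : ∀ x ∈ U, Function.Bijective (stalkLin φ x)) {V : X.Opens} (hV : V ≤ U) :
    Function.Bijective (φ.app V) :=
  TopCat.Presheaf.app_bijective_of_stalkFunctor_map_bijective
    (F := (⟨M.presheaf, M.isSheaf⟩ : TopCat.Sheaf Ab X.toTopCat)) (G := ⟨N.presheaf, N.isSheaf⟩)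
    ⟨φ.mapPresheaf⟩ V fun x hx => h x (hV hx)

theorem isIso_restrict_of_stalk {X : Scheme.{u}} {M N : X.Modules} (φ : M ⟶ N) (U : X.Opens)
    (h : ∀ x ∈ U, Function.Bijective (stalkLin φ x)) : IsIso ((Scheme.Modules.restrictFunctor U.ι).map φ) :=
  Scheme.Modules.Hom.isIso_iff_isIso_app.2 fun V => by
    rw [ConcreteCategory.isIso_iff_bijective]
    exact app_bijective_of_stalk φ h ((U.ι.image_mono le_top).trans U.ι_image_top.le)

/-- A period of the units on a quasi-compact open. -/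
theorem exists_period {U : P.Opens} (hU : IsCompact (U : Set P)) :
    ∃ d : ℕ, 0 < d ∧ ∀ n : ℤ, (d : ℤ) ∣ n → ∀ x ∈ U, ∃ (V : Y.Opens) (hV : IsAffineOpen V)
      (y : Proj (𝒮.deg V hV)), (RelProj.emb p chart V hV).base y = x ∧ GrModLib.HasUnit (𝒮.deg V hV) n y := by
  have hnb : ∀ x : U, ∃ (e : ℕ) (O : P.Opens), 0 < e ∧ (x : P) ∈ O ∧ ∀ z ∈ O, ∀ n : ℤ, (e : ℤ) ∣ n →
      ∃ (V : Y.Opens) (hV : IsAffineOpen V) (y : Proj (𝒮.deg V hV)),
        (RelProj.emb p chart V hV).base y = z ∧ GrModLib.HasUnit (𝒮.deg V hV) n y := by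
    intro x
    obtain ⟨⟨V, hV⟩, y, hy⟩ := exists_mem_opensRange chart x.1
    obtain ⟨e, g, he, hg, hgy⟩ := GrModLib.exists_mem_pos_notMem (y : ProjectiveSpectrum (𝒮.deg V hV))
    refine ⟨e, (RelProj.emb p chart V hV) ''ᵁ Proj.basicOpen (𝒮.deg V hV) g, he, ⟨y, hgy, hy⟩, ?_⟩
    rintro z ⟨y', hy', rfl⟩ n hn
    exact ⟨V, hV, y', rfl, GrModLib.hasUnit_of_dvd hg hy' hn⟩
  choose e O he hxO hO using hnb
  obtain ⟨t, ht⟩ := hU.elim_finite_subcover (fun x : U => (O x : Set P)) (fun x => (O x).isOpen)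
    fun z hz => Set.mem_iUnion.2 ⟨⟨z, hz⟩, hxO ⟨z, hz⟩⟩
  refine ⟨∏ x ∈ t, e x, Finset.prod_pos fun x _ => he x, fun n hn z hz => ?_⟩
  obtain ⟨x, hx, hzx⟩ := Set.mem_iUnion₂.1 (ht hz)
  exact hO x z hzx n ((Int.natCast_dvd_natCast.2 (Finset.dvd_prod_of_mem e hx)).trans hn)

end Groth.Agent.RelTildeLib
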