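import Groth.Agent.PullbackMod.Stalk
import Groth.Agent.ParaFLib.Stalk

/-! An adjunct that carries a generator to a generator is bijective on stalks. -/

set_option autoImplicit false
set_option linter.style.haveILetI false
set_option backward.isDefEq.respectTransparency false

universe u

open CategoryTheory CategoryTheory.Limits AlgebraicGeometry TopologicalSpace Opposite
open Groth.Agent.ParaFLib Groth.Agent.PullbackMod

noncomputable section

namespace Groth.Agent.RelTildeLib

theorem bijective_stalk_adjunct {X X' : Scheme.{u}} (g : X' ⟶ X) {M : X.Modules} [Coh.IsQCoh M] {N : X'.Modules}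
    (θ : M ⟶ (Scheme.Modules.pushforward g).obj N) {x' : X'} {W : X.Opens} (hx : g x' ∈ W) {u : Γ(M, W)}
    (hu : Gen W u) {W' : X'.Opens} (hW' : W' ≤ g ⁻¹ᵁ W) (hx' : x' ∈ W')
    (hv : Gen W' (N.presheaf.map (homOfLE hW').op (θ.app W u))) :
    Function.Bijective
      (stalkLin (((Scheme.Modules.pullbackPushforwardAdjunction g).homEquiv M N).symm θ) x') := by
  let R := X.presheaf.stalk (g x')
  let S := X'.presheaf.stalk x'
  set θ' := ((Scheme.Modules.pullbackPushforwardAdjunction g).homEquiv M N).symm θ with hθ'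
  letI : Algebra R S := (g.stalkMap x').hom.toAlgebra
  letI := Module.compHom (((Scheme.Modules.pullback g).obj M).presheaf.stalk x') (g.stalkMap x').hom
  haveI : IsScalarTower R S (((Scheme.Modules.pullback g).obj M).presheaf.stalk x') :=
    .of_algebraMap_smul fun _ _ => rfl
  have hbc : IsBaseChange S (pullStalkL g M x') := isBaseChange_pullStalkL g M x'
  let e := M.presheaf.germ W (g x') hx u
  have hsurj : ∀ z : ((Scheme.Modules.pullback g).obj M).presheaf.stalk x',
      ∃ r : S, r • pullStalk g M x' e = z := fun z => by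
    induction z using hbc.inductionOn with
    | zero => exact ⟨0, zero_smul _ _⟩
    | tmul m =>
      obtain ⟨r, rfl⟩ := (hu.bijective_germ (g x') hx).2 m
      exact ⟨g.stalkMap x' r, (pullStalk_smul g M x' r e).symm⟩
    | smul s z ih =>
      obtain ⟨r, rfl⟩ := ih
      exact ⟨s * r, mul_smul _ _ _⟩
    | add z z' ih ih' =>
      obtain ⟨r, rfl⟩ := ih
      obtain ⟨r', rfl⟩ := ih'
      exact ⟨r + r', add_smul _ _ _⟩
  have hP : stalkLin θ' x' (pullStalk g M x' e) =
      N.presheaf.germ W' x' hx' (N.presheaf.map (homOfLE hW').op (θ.app W u)) := by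
    rw [pullStalk_germ, TopCat.Presheaf.germ_res_apply]
    refine (stalkLin_germ θ' (U := g ⁻¹ᵁ W) x' hx _).trans (congrArg (N.presheaf.germ (g ⁻¹ᵁ W) x' hx) ?_)
    have h1 : (Scheme.Modules.pullbackPushforwardAdjunction g).unit.app M ≫
        (Scheme.Modules.pushforward g).map θ' = θ :=
      (Adjunction.homEquiv_unit _ _ _ _).symm.trans (Equiv.apply_symm_apply _ _)
    exact congrArg (fun χ : M ⟶ (Scheme.Modules.pushforward g).obj N => χ.app W u) h1
  have hb := hv.bijective_germ x' hx'
  refine ⟨(injective_iff_map_eq_zero _).2 fun z hz => ?_, fun z => ?_⟩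
  · obtain ⟨r, rfl⟩ := hsurj z
    rw [LinearMap.map_smul, hP] at hz
    rw [hb.1 (show r • _ = (0 : S) • _ by rw [zero_smul]; exact hz), zero_smul]
  · obtain ⟨r, rfl⟩ := hb.2 z
    exact ⟨r • pullStalk g M x' e, by rw [LinearMap.map_smul, hP]⟩

end Groth.Agent.RelTildeLib
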