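import Groth.Agent.RelTildeLib.Glue

/-! Readings in the chart of a basic open. -/

set_option autoImplicit false
set_option linter.style.haveILetI false
set_option backward.isDefEq.respectTransparency false

universe u

open CategoryTheory CategoryTheory.Limits AlgebraicGeometry TopologicalSpace Opposite
open scoped HomogeneousIdeal

noncomputable section

namespace Groth.Agent.RelTildeLib

variable {Y P : Scheme.{u}} {𝒮 : RelProj.QCGrAlg Y} {p : P ⟶ Y}
  {chart : ∀ (U : Y.Opens) (hU : IsAffineOpen U), (((p ⁻¹ᵁ U : P.Opens) : Scheme.{u}) ≅ Proj (𝒮.deg U hU))}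

theorem emb_comap (hP : RelProj.IsRelProj 𝒮 p chart) (U : Y.Opens) (hU : IsAffineOpen U) (r : Γ(Y, U))
    (y : ProjectiveSpectrum (𝒮.deg (Y.basicOpen r) (hU.basicOpen r))) :
    (RelProj.emb p chart U hU).base (ProjectiveSpectrum.comap
      (𝒮.res hU (hU.basicOpen r) (Y.basicOpen_le r)) (𝒮.irrelevant_le_map U hU r) y) =
    (RelProj.emb p chart (Y.basicOpen r) (hU.basicOpen r)).base y :=
  congrArg (fun f : Proj (𝒮.deg (Y.basicOpen r) (hU.basicOpen r)) ⟶ P => f.base y) (RelProj.map_res_emb hP U hU r)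

theorem sameAt_basicOpen (hP : RelProj.IsRelProj 𝒮 p chart) {ℳ : RelProj.GrModule 𝒮} {n : ℤ} {F F' : P.Modules}
    {lam : ∀ (U : Y.Opens) (hU : IsAffineOpen U),
      F ⟶ (Scheme.Modules.pushforward (RelProj.emb p chart U hU)).obj (GrMod.tilde (𝒮.deg U hU) (ℳ.deg U hU) n)}
    (hF : RelProj.IsRelTilde 𝒮 p chart ℳ n F lam)
    {lam' : ∀ (U : Y.Opens) (hU : IsAffineOpen U),
      F' ⟶ (Scheme.Modules.pushforward (RelProj.emb p chart U hU)).obj (GrMod.tilde (𝒮.deg U hU) (ℳ.deg U hU) n)}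
    (hF' : RelProj.IsRelTilde 𝒮 p chart ℳ n F' lam')
    (U : Y.Opens) (hU : IsAffineOpen U) (r : Γ(Y, U)) (W : P.Opens) (s : Γ(F, W)) (t : Γ(F', W))
    (h : SameAt lam lam' U hU s t) : SameAt lam lam' (Y.basicOpen r) (hU.basicOpen r) s t := by
  refine GrModLib.sect_ext fun y => ?_
  have hy' : (RelProj.emb p chart U hU).base (ProjectiveSpectrum.comap
      (𝒮.res hU (hU.basicOpen r) (Y.basicOpen_le r)) (𝒮.irrelevant_le_map U hU r) y.1) ∈ W := by
    rw [emb_comap hP U hU r y.1]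
    exact y.2
  refine (hF'.compat U hU r W t y.1 y.2 hy').trans ?_
  rw [show (lam' U hU).app W t = (lam U hU).app W s from h]
  exact (hF.compat U hU r W s y.1 y.2 hy').symm

theorem sameTwistAt_basicOpen (hP : RelProj.IsRelProj 𝒮 p chart) {n : ℤ} {F F' : P.Modules}
    {lam : ∀ (U : Y.Opens) (hU : IsAffineOpen U),
      F ⟶ (Scheme.Modules.pushforward (RelProj.emb p chart U hU)).obj (GrTwist.twist (𝒮.deg U hU) n)}
    (hF : RelProj.IsRelTwist 𝒮 p chart n F lam)
    {lam' : ∀ (U : Y.Opens) (hU : IsAffineOpen U),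
      F' ⟶ (Scheme.Modules.pushforward (RelProj.emb p chart U hU)).obj (GrTwist.twist (𝒮.deg U hU) n)}
    (hF' : RelProj.IsRelTwist 𝒮 p chart n F' lam')
    (U : Y.Opens) (hU : IsAffineOpen U) (r : Γ(Y, U)) (W : P.Opens) (s : Γ(F, W)) (t : Γ(F', W))
    (h : SameAt lam lam' U hU s t) : SameAt lam lam' (Y.basicOpen r) (hU.basicOpen r) s t := by
  refine Subtype.ext (funext fun y => Subtype.ext ?_)
  have hy' : (RelProj.emb p chart U hU).base (ProjectiveSpectrum.comap
      (𝒮.res hU (hU.basicOpen r) (Y.basicOpen_le r)) (𝒮.irrelevant_le_map U hU r) y.1) ∈ W := by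
    rw [emb_comap hP U hU r y.1]
    exact y.2
  refine (hF'.compat U hU r W t y.1 y.2 hy').trans ?_
  rw [show (lam' U hU).app W t = (lam U hU).app W s from h]
  exact (hF.compat U hU r W s y.1 y.2 hy').symm

end Groth.Agent.RelTildeLib
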