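import Groth.Agent.RelTildeLib.Section
import Groth.Agent.RelTildeLib.Compat
import Groth.Agent.AmpleLib.Tensor

/-! Generators given chart by chart. -/

set_option autoImplicit false
set_option linter.style.haveILetI false
set_option backward.isDefEq.respectTransparency false

universe u

open CategoryTheory CategoryTheory.Limits AlgebraicGeometry TopologicalSpace Opposite
open Groth.Agent.ParaFLib
open scoped HomogeneousIdeal

noncomputable section

namespace Groth.Agent.RelTildeLib

theorem gen_of_chart {X U : Scheme.{u}} (j : U ⟶ X) [IsOpenImmersion j] {F : X.Modules} {G : U.Modules}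
    (lam : F ⟶ (Scheme.Modules.pushforward j).obj G)
    (h : ∀ W : X.Opens, W ≤ j.opensRange → Function.Bijective (lam.app W)) {W : X.Opens} {e : Γ(F, W)}
    (hW : W ≤ j.opensRange) (hu : Gen (j ⁻¹ᵁ W) (lam.app W e)) : Gen W e := by
  intro O hO
  have hOr : O ≤ j.opensRange := hO.trans hW
  refine (Function.Bijective.of_comp_iff' (h O hOr) _).1 ?_
  have e1 : (lam.app O ∘ fun r : Γ(X, O) => r • F.presheaf.map (homOfLE hO).op e) =
      (fun r : Γ(U, j ⁻¹ᵁ O) => r • G.presheaf.map (homOfLE (j.preimage_mono hO)).op (lam.app W e)) ∘ j.app O := by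
    funext r
    refine (Scheme.Modules.Hom.app_smul lam r _).trans ?_
    rw [show lam.app O (F.presheaf.map (homOfLE hO).op e) =
        G.presheaf.map (homOfLE (j.preimage_mono hO)).op (lam.app W e) from
      ConcreteCategory.congr_hom (lam.mapPresheaf.naturality (homOfLE hO).op) e]
    rfl
  rw [e1]
  haveI := j.isIso_app O hOr
  exact (hu _ (j.preimage_mono hO)).comp (ConcreteCategory.bijective_of_isIso (j.app O))

theorem gen_of_cover {X : Scheme.{u}} {L : X.Modules} {W : X.Opens} {s : Γ(L, W)}
    (h : ∀ x ∈ W, ∃ (V : X.Opens) (hV : V ≤ W), x ∈ V ∧ Gen V (L.presheaf.map (homOfLE hV).op s)) : Gen W s :=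
  AmpleLib.gen_of_germ fun x hx => by
    obtain ⟨V, hV, hxV, hg⟩ := h x hx
    have := hg.bijective_germ x hxV
    rwa [TopCat.Presheaf.germ_res_apply] at this

end Groth.Agent.RelTildeLib
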