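import Groth.Prelude.Def_Coh
import Groth.Agent.ParaFLib.Gen

/-! Gluing modules along a system of open subsets that is directed on overlaps. -/

set_option autoImplicit false
set_option linter.style.haveILetI false
set_option backward.isDefEq.respectTransparency false
set_option backward.defeqAttrib.useBackward true

universe u

open CategoryTheory CategoryTheory.Limits AlgebraicGeometry TopologicalSpace Opposite
open Groth.Agent.ParaFLib

noncomputable section

namespace Groth.Agent.RelTildeLib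

/-- Modules on opens, compared along a directed relation. -/
structure GlueData (P : Scheme.{u}) where
  κ : Type u
  O : κ → P.Opens
  R : κ → κ → Prop
  H : κ → P.Modules
  c : ∀ {a b : κ}, R a b → (H a ⟶ H b)
  cover : ∀ x : P, ∃ a, x ∈ O a
  le : ∀ {a b : κ}, R a b → O b ≤ O a
  trans : ∀ {a b d : κ}, R a b → R b d → R a d
  comp : ∀ {a b d : κ} (h : R a b) (h' : R b d), c h ≫ c h' = c (trans h h')
  common : ∀ (a b : κ) (x : P), x ∈ O a → x ∈ O b → ∃ d, R a d ∧ R b d ∧ x ∈ O d
  res_bij : ∀ (a : κ) (W : P.Opens),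
    Function.Bijective ((H a).presheaf.map (homOfLE (inf_le_left : W ⊓ O a ≤ W)).op)
  c_bij : ∀ {a b : κ} (h : R a b) (W : P.Opens), W ≤ O b → Function.Bijective ((c h).app W)

namespace GlueData

variable {P : Scheme.{u}} (G : GlueData P)

/-- Compatible families over `W`. -/
def sec (W : P.Opens) : Submodule Γ(P, W) (∀ a, Γ(G.H a, W)) where
  carrier := {f | ∀ (a b : G.κ) (h : G.R a b), (G.c h).app W (f a) = f b}
  zero_mem' a b h := map_zero _
  add_mem' {f g} hf hg a b h := by
    show (G.c h).app W (f a + g a) = f b + g b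
    rw [map_add, hf a b h, hg a b h]
  smul_mem' r f hf a b h := by
    show (G.c h).app W (r • f a) = r • f b
    rw [Scheme.Modules.Hom.app_smul, hf a b h]

theorem res_mem {W W' : P.Opens} (i : W' ⟶ W) {f : ∀ a, Γ(G.H a, W)} (hf : f ∈ G.sec W) :
    (fun a => (G.H a).presheaf.map i.op (f a)) ∈ G.sec W' := fun a b h => by
  exact (ConcreteCategory.congr_hom ((G.c h).mapPresheaf.naturality i.op) (f a)).trans
    (congrArg ((G.H b).presheaf.map i.op) (hf a b h))

/-- The glued presheaf of abelian groups. -/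
def ab : TopCat.Presheaf Ab.{u} P where
  obj W := AddCommGrpCat.of (G.sec W.unop)
  map {W W'} i := AddCommGrpCat.ofHom
    { toFun := fun f => ⟨fun a => (G.H a).presheaf.map i (f.1 a), G.res_mem i.unop f.2⟩
      map_zero' := Subtype.ext (funext fun a => map_zero ((G.H a).presheaf.map i).hom)
      map_add' := fun f g => Subtype.ext (funext fun a => map_add ((G.H a).presheaf.map i).hom (f.1 a) (g.1 a)) }
  map_id W := AddCommGrpCat.hom_ext (AddMonoidHom.ext fun f => Subtype.ext (funext fun a =>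
    ConcreteCategory.congr_hom ((G.H a).presheaf.map_id W) (Subtype.val (p := fun f => f ∈ G.sec W.unop) f a)))
  map_comp {U V W} i j := AddCommGrpCat.hom_ext (AddMonoidHom.ext fun f => Subtype.ext (funext fun a =>
    ConcreteCategory.congr_hom ((G.H a).presheaf.map_comp i j) (Subtype.val (p := fun f => f ∈ G.sec U.unop) f a)))

instance (W : P.Opensᵒᵖ) : Module (P.ringCatSheaf.obj.obj W) (G.ab.obj W) :=
  inferInstanceAs (Module Γ(P, W.unop) (G.sec W.unop))

/-- The glued presheaf of modules. -/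
def pre : P.PresheafOfModules :=
  PresheafOfModules.ofPresheaf G.ab fun _ _ i r f => Subtype.ext (funext fun a => (G.H a).val.map_smul i r (f.1 a))

theorem ab_isSheaf : G.ab.IsSheaf := by
  rw [TopCat.Presheaf.isSheaf_iff_isSheafUniqueGluing]
  intro ι U sf hsf
  have hex : ∀ a, ∃! g : Γ(G.H a, iSup U), ∀ i, (G.H a).presheaf.map (Opens.leSupr U i).op g = (sf i).1 a :=
    fun a => (TopCat.Presheaf.isSheaf_iff_isSheafUniqueGluing (G.H a).presheaf).1 (G.H a).isSheaf U
      (fun i => (sf i).1 a) fun i j => congrArg (fun f => f.1 a) (hsf i j)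
  choose g hg huniq using hex
  refine ⟨⟨g, fun a b h => ?_⟩, fun i => Subtype.ext (funext fun a => hg a i), fun t ht =>
    Subtype.ext (funext fun a => huniq a (t.1 a) fun i => congrArg (fun f => f.1 a) (ht i))⟩
  refine huniq b _ fun i => ?_
  refine (ConcreteCategory.congr_hom ((G.c h).mapPresheaf.naturality (Opens.leSupr U i).op) (g a)).symm.trans ?_
  show (G.c h).app (U i) ((G.H a).presheaf.map (Opens.leSupr U i).op (g a)) = _
  rw [hg a i]
  exact (sf i).2 a b h

/-- The glued module. -/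
def glued : P.Modules where
  val := G.pre
  isSheaf := G.ab_isSheaf

/-- The reading on the piece `a`. -/
def π (a : G.κ) : G.glued ⟶ G.H a :=
  ⟨PresheafOfModules.homMk
    { app := fun W => AddCommGrpCat.ofHom
        { toFun := fun f : G.sec W.unop => f.1 a
          map_zero' := rfl
          map_add' := fun _ _ => rfl }
      naturality := fun _ _ _ => rfl }
    fun _ _ _ => rfl⟩

theorem π_app (a : G.κ) (W : P.Opens) (f : G.sec W) : (G.π a).app W f = f.1 a := rfl

theorem π_c {a b : G.κ} (h : G.R a b) : G.π a ≫ G.c h = G.π b :=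
  Scheme.Modules.hom_ext _ _ fun W => ConcreteCategory.hom_ext _ _ fun f =>
    (show (G.c h).app W ((show G.sec W from f).1 a) = (show G.sec W from f).1 b from
      (show G.sec W from f).2 a b h)

theorem res_app {a b : G.κ} (h : G.R a b) {W W' : P.Opens} (i : W' ≤ W) (z : Γ(G.H a, W)) :
    (G.c h).app W' ((G.H a).presheaf.map (homOfLE i).op z) = (G.H b).presheaf.map (homOfLE i).op ((G.c h).app W z) :=
  ConcreteCategory.congr_hom ((G.c h).mapPresheaf.naturality (homOfLE i).op) z

theorem comp_app {a b d : G.κ} (h : G.R a b) (h' : G.R b d) (W : P.Opens) (z : Γ(G.H a, W)) :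
    (G.c h').app W ((G.c h).app W z) = (G.c (G.trans h h')).app W z :=
  congrArg (fun φ : G.H a ⟶ G.H d => φ.app W z) (G.comp h h')

/-- Sections of a piece agree if they agree locally near the points of the piece. -/
theorem eq_of_locally_piece {a : G.κ} {W : P.Opens} {z z' : Γ(G.H a, W)}
    (h : ∀ x ∈ W ⊓ G.O a, ∃ (V : P.Opens) (hV : V ≤ W), x ∈ V ∧
      (G.H a).presheaf.map (homOfLE hV).op z = (G.H a).presheaf.map (homOfLE hV).op z') : z = z' := by
  choose V hV hxV he using h
  refine (G.res_bij a W).1 ?_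
  refine TopCat.Sheaf.eq_of_locally_eq' (⟨(G.H a).presheaf, (G.H a).isSheaf⟩ : TopCat.Sheaf Ab.{u} P.carrier)
    (fun x : ↥(W ⊓ G.O a) => V x.1 x.2 ⊓ (W ⊓ G.O a)) _ (fun _ => homOfLE inf_le_right)
    (fun x hx => Opens.mem_iSup.2 ⟨⟨x, hx⟩, hxV x hx, hx⟩) _ _ fun x => ?_
  show (G.H a).presheaf.map _ ((G.H a).presheaf.map _ z) = (G.H a).presheaf.map _ ((G.H a).presheaf.map _ z')
  rw [res_res, res_res]
  have := congrArg ((G.H a).presheaf.map (homOfLE (inf_le_left : V x.1 x.2 ⊓ (W ⊓ G.O a) ≤ V x.1 x.2)).op) (he x.1 x.2)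
  rwa [res_res, res_res] at this

/-- A piece-`b` section is determined by its readings on the common refinements with `a`. -/
theorem unique_piece {a b : G.κ} {W : P.Opens} (hW : W ≤ G.O a) {z z' : Γ(G.H b, W)}
    (h : ∀ (d : G.κ) (_ : G.R a d) (hb : G.R b d), (G.c hb).app W z = (G.c hb).app W z') : z = z' :=
  G.eq_of_locally_piece fun x hx => by
    obtain ⟨d, ha, hb, hxd⟩ := G.common a b x (hW hx.1) hx.2
    refine ⟨W ⊓ G.O d, inf_le_left, ⟨hx.1, hxd⟩, (G.c_bij hb _ inf_le_right).1 ?_⟩
    rw [res_app, res_app, h d ha hb]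

theorem exists_piece {a : G.κ} (b : G.κ) {W : P.Opens} (hW : W ≤ G.O a) (s : Γ(G.H a, W)) :
    ∃ t : Γ(G.H b, W), ∀ (d : G.κ) (ha : G.R a d) (hb : G.R b d), (G.c hb).app W t = (G.c ha).app W s := by
  let F : TopCat.Sheaf Ab.{u} P.carrier := ⟨(G.H b).presheaf, (G.H b).isSheaf⟩
  let W' := W ⊓ G.O b
  have hcom : ∀ x : W', ∃ d, G.R a d ∧ G.R b d ∧ x.1 ∈ G.O d := fun x => G.common a b x.1 (hW x.2.1) x.2.2
  choose d hda hdb hxd using hcom
  have hex : ∀ x : W', ∃ t : Γ(G.H b, W' ⊓ G.O (d x)), (G.c (hdb x)).app _ t =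
      (G.c (hda x)).app _ ((G.H a).presheaf.map (homOfLE (inf_le_left.trans inf_le_left)).op s) :=
    fun x => (G.c_bij (hdb x) _ inf_le_right).2 _
  choose t ht using hex
  -- both sides agree on every common refinement
  have key : ∀ (x : W') (e : G.κ) (ha : G.R a e) (hb : G.R b e) (V : P.Opens) (hV : V ≤ W' ⊓ G.O (d x)),
      V ≤ G.O e → (G.c hb).app V ((G.H b).presheaf.map (homOfLE hV).op (t x)) =
        (G.c ha).app V ((G.H a).presheaf.map (homOfLE (hV.trans (inf_le_left.trans inf_le_left))).op s) := by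
    intro x e ha hb V hV hVe
    refine G.eq_of_locally_piece fun y hy => ?_
    obtain ⟨k, hek, hdk, hyk⟩ := G.common e (d x) y hy.2 (hV hy.1).2
    refine ⟨V ⊓ G.O k, inf_le_left, ⟨hy.1, hyk⟩, (G.c_bij hek _ inf_le_right).1 ?_⟩
    have h1 := congrArg ((G.H (d x)).presheaf.map (homOfLE (inf_le_left.trans hV : V ⊓ G.O k ≤ W' ⊓ G.O (d x))).op) (ht x)
    have h2 := congrArg ((G.c hdk).app (V ⊓ G.O k)) h1
    rw [← res_app, ← res_app, comp_app, comp_app] at h2
    rw [← res_app, ← res_app, comp_app, comp_app, res_res, res_res]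
    rw [res_res] at h2
    exact h2
  obtain ⟨T, hT, -⟩ := F.existsUnique_gluing' (fun x : W' => W' ⊓ G.O (d x)) W' (fun _ => homOfLE inf_le_left)
    (fun x hx => Opens.mem_iSup.2 ⟨⟨x, hx⟩, hx, hxd ⟨x, hx⟩⟩) t (fun x y => by
      show (G.H b).presheaf.map (homOfLE inf_le_left).op (t x) = (G.H b).presheaf.map (homOfLE inf_le_right).op (t y)
      refine G.unique_piece ((inf_le_left.trans inf_le_left).trans (inf_le_left.trans hW)) fun e ha hb => ?_
      refine G.eq_of_locally_piece fun z hz => ⟨((W' ⊓ G.O (d x)) ⊓ (W' ⊓ G.O (d y))) ⊓ G.O e, inf_le_left, hz, ?_⟩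
      rw [← res_app, ← res_app, res_res, res_res, key x e ha hb _ _ inf_le_right, key y e ha hb _ _ inf_le_right])
  obtain ⟨T', hT'⟩ := (G.res_bij b W).2 T
  refine ⟨T', fun e ha hb => G.eq_of_locally_piece fun z hz => ?_⟩
  have hzW' : z ∈ W' := ⟨hz.1, G.le hb hz.2⟩
  let x : W' := ⟨z, hzW'⟩
  refine ⟨(W' ⊓ G.O (d x)) ⊓ G.O e, inf_le_left.trans (inf_le_left.trans inf_le_left), ⟨⟨hzW', hxd x⟩, hz.2⟩, ?_⟩
  rw [← res_app, ← res_app, ← key x e ha hb _ inf_le_left inf_le_right,
    ← show (G.H b).presheaf.map (homOfLE (inf_le_left : W' ⊓ G.O (d x) ≤ W')).op T = t x from hT x, ← hT', res_res, res_res]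

theorem π_bijective (a : G.κ) (W : P.Opens) (hW : W ≤ G.O a) : Function.Bijective ((G.π a).app W) := by
  constructor
  · intro f g h
    change (show G.sec W from f).1 a = (show G.sec W from g).1 a at h
    refine Subtype.ext (funext fun b => G.unique_piece hW fun d ha hb => ?_)
    rw [(show G.sec W from f).2 b d hb, (show G.sec W from g).2 b d hb, ← (show G.sec W from f).2 a d ha,
      ← (show G.sec W from g).2 a d ha, h]
  · intro s
    choose t ht using fun b => G.exists_piece b hW s
    refine ⟨(⟨t, fun b b' h => G.unique_piece hW fun d ha hb => ?_⟩ : G.sec W), ?_⟩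
    · rw [comp_app, ht b d ha (G.trans h hb), ht b' d ha hb]
    · exact G.unique_piece hW fun d ha hb => ht a d ha hb

end GlueData

end Groth.Agent.RelTildeLib
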