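import Groth.Agent.QCohLib.Criterion
import Groth.Agent.QCohLib.FiniteType
import Groth.Agent.ParaFLib.Gen

/-! A module identified, over an open subscheme, with a given module: local properties. -/

set_option autoImplicit false
set_option linter.style.haveILetI false

universe u

open CategoryTheory CategoryTheory.Limits AlgebraicGeometry TopologicalSpace Opposite
open Groth.Agent.ParaFLib

noncomputable section

namespace Groth.Agent.RelTildeLib

variable {X U : Scheme.{u}} (j : U ⟶ X) [IsOpenImmersion j] {F : X.Modules} {G : U.Modules}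
  (lam : F ⟶ (Scheme.Modules.pushforward j).obj G)

/-- The adjoint map `F|_U ⟶ G`. -/
def adjHom : F.restrict j ⟶ G := ((Scheme.Modules.restrictAdjunction j).homEquiv F G).symm lam

theorem isIso_adjHom (h : ∀ W : X.Opens, W ≤ j.opensRange → Function.Bijective (lam.app W)) :
    IsIso (adjHom j lam) := by
  refine Scheme.Modules.Hom.isIso_iff_isIso_app.2 fun V => ?_
  have e : (adjHom j lam).app V =
      lam.app (j ''ᵁ V) ≫ G.presheaf.map (eqToHom (j.preimage_image_eq V).symm).op := by
    rw [adjHom, Adjunction.homEquiv_counit]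
    rfl
  rw [e]
  exact @IsIso.comp_isIso _ _ _ _ _ _ _
    ((ConcreteCategory.isIso_iff_bijective _).2 (h _ (j.image_le_opensRange V))) 
    ((G.presheaf.mapIso (eqToIso (j.preimage_image_eq V).symm).op).isIso_hom)

/-- `F|_U ≅ G`. -/
def adjIso (h : ∀ W : X.Opens, W ≤ j.opensRange → Function.Bijective (lam.app W)) : F.restrict j ≅ G :=
  @asIso _ _ _ _ (adjHom j lam) (isIso_adjHom j lam h)

include lam in
theorem isQCoh_restrict (h : ∀ W : X.Opens, W ≤ j.opensRange → Function.Bijective (lam.app W))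
    (hG : Coh.IsQCoh G) : Coh.IsQCoh (F.restrict j) :=
  (SheafOfModules.isQuasicoherent U.ringCatSheaf).prop_of_iso (adjIso j lam h).symm hG

omit [IsOpenImmersion j] in
theorem app_smul_res {V : U.Opens} {W : X.Opens} (hVW : V ≤ j ⁻¹ᵁ W) (r : Γ(X, W)) (s : Γ(F, W)) :
    G.presheaf.map (homOfLE hVW).op (lam.app W (r • s)) =
      U.presheaf.map (homOfLE hVW).op (j.app W r) • G.presheaf.map (homOfLE hVW).op (lam.app W s) := by
  rw [Scheme.Modules.Hom.app_smul lam r s]
  exact G.map_smul _ (j.app W r) _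

theorem exists_gen_image (h : ∀ W : X.Opens, W ≤ j.opensRange → Function.Bijective (lam.app W))
    {V : U.Opens} {u : Γ(G, V)} (hu : Gen V u) : ∃ s : Γ(F, j ''ᵁ V), Gen (j ''ᵁ V) s := by
  obtain ⟨s, hs⟩ := (h _ (j.image_le_opensRange V)).2
    (G.presheaf.map (homOfLE (j.preimage_image_eq V).le).op u)
  refine ⟨s, fun O hO => ?_⟩
  have hOr : O ≤ j.opensRange := hO.trans (j.image_le_opensRange V)
  have hOV : j ⁻¹ᵁ O ≤ V := (j.preimage_mono hO).trans (j.preimage_image_eq V).le
  refine (Function.Bijective.of_comp_iff' (h O hOr) _).1 ?_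
  have e : (lam.app O ∘ fun r : Γ(X, O) => r • F.presheaf.map (homOfLE hO).op s) =
      (fun r : Γ(U, j ⁻¹ᵁ O) => r • G.presheaf.map (homOfLE hOV).op u) ∘ j.app O := by
    funext r
    refine (Scheme.Modules.Hom.app_smul lam r _).trans ?_
    have e1 : lam.app O (F.presheaf.map (homOfLE hO).op s) =
        G.presheaf.map (homOfLE (j.preimage_mono hO)).op (lam.app (j ''ᵁ V) s) :=
      ConcreteCategory.congr_hom (lam.mapPresheaf.naturality (homOfLE hO).op) s
    rw [e1, hs, res_res]
    rfl
  rw [e]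
  haveI := j.isIso_app O hOr
  exact (hu _ hOV).comp (ConcreteCategory.bijective_of_isIso (j.app O))

end Groth.Agent.RelTildeLib

namespace Groth.Agent.RelTildeLib

variable {X : Scheme.{u}} {M : X.Modules}

/-- Quasi-coherence is local for covers by open subschemes. -/
theorem isQCoh_of_cover {ι : Type u} (U : ι → Scheme.{u}) (j : ∀ a, U a ⟶ X) [∀ a, IsOpenImmersion (j a)]
    (hcov : ∀ x, ∃ a, x ∈ (j a).opensRange) (h : ∀ a, Coh.IsQCoh (M.restrict (j a))) : Coh.IsQCoh M := by
  let κ := {W : X.affineOpens // ∃ a, W.1 ≤ (j a).opensRange}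
  have hW : ⨆ W : κ, W.1.1 = ⊤ := eq_top_iff.2 fun x _ => by
    obtain ⟨a, ha⟩ := hcov x
    obtain ⟨W, hW, hxW, hWa⟩ := Opens.isBasis_iff_nbhd.1 X.isBasis_affineOpens ha
    exact Opens.mem_iSup.2 ⟨⟨⟨W, hW⟩, a, hWa⟩, hxW⟩
  have key : ∀ W : κ, Coh.IsQCoh (M.restrict W.1.2.fromSpec) := by
    intro W
    obtain ⟨a, ha⟩ := W.2
    haveI : (M.restrict (j a)).IsQuasicoherent := h a
    let g := IsOpenImmersion.lift (j a) W.1.2.fromSpec (by
      rw [W.1.2.range_fromSpec]
      exact ha)
    have hg : g ≫ j a = W.1.2.fromSpec := IsOpenImmersion.lift_fac _ _ _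
    haveI : IsOpenImmersion (g ≫ j a) := hg ▸ (inferInstance : IsOpenImmersion W.1.2.fromSpec)
    haveI : IsOpenImmersion g := IsOpenImmersion.of_comp g (j a)
    exact (SheafOfModules.isQuasicoherent (Spec Γ(X, W.1.1)).ringCatSheaf).prop_of_iso
      (((Scheme.Modules.restrictFunctorComp g (j a)).symm ≪≫ Scheme.Modules.restrictFunctorCongr hg).app M)
      (Scheme.Modules.isQuasicoherent_restrictFunctor g (M.restrict (j a)))
  have hiso : ∀ W : κ, IsIso (Scheme.Modules.fromTildeΓ (M.restrict W.1.2.fromSpec)) := fun W =>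
    haveI : (M.restrict W.1.2.fromSpec).IsQuasicoherent := key W
    Scheme.Modules.isIso_fromTildeΓ_of_isQuasicoherent (R := Γ(X, W.1.1)) _
  let P : ∀ W : κ, (M.restrict W.1.1.ι).Presentation := fun W =>
    SheafOfModules.Presentation.ofIsIso.{u, u, u}
      (((Scheme.Modules.restrictFunctorComp W.1.2.isoSpec.hom W.1.2.fromSpec).symm ≪≫
        Scheme.Modules.restrictFunctorCongr W.1.2.isoSpec_hom_fromSpec).app M).hom
      (Scheme.Modules.presentationRestrict W.1.2.isoSpec.hom
        (SheafOfModules.Presentation.ofIsIso.{u, u, u}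
          (@asIso _ _ _ _ (Scheme.Modules.fromTildeΓ (M.restrict W.1.2.fromSpec)) (hiso W)).hom
          (presentationTilde.{u} _ .univ (by simp) _ (Submodule.span_eq _))))
  exact SheafOfModules.QuasicoherentData.isQuasicoherent (R := X.ringCatSheaf) (M := M)
    { I := κ
      X := fun W => W.1.1
      coversTop := by
        rw [Opens.coversTop_iff, IsOpenCover]
        exact hW
      presentation := fun W => QCohLib.presentationOver M W.1.1 (P W) }

end Groth.Agent.RelTildeLib
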