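import Groth.Agent.RelTildeLib.Basic
import Groth.Agent.AmpleLib.GenLocus

/-! The locus where `α_d(f)` does not vanish. -/

set_option autoImplicit false
set_option linter.style.haveILetI false
set_option backward.isDefEq.respectTransparency false

universe u

open CategoryTheory CategoryTheory.Limits AlgebraicGeometry TopologicalSpace Opposite
open Groth.Agent.ParaFLib HomogeneousLocalization
open scoped HomogeneousIdeal

noncomputable section

namespace Groth.Agent.RelTildeLib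

variable {X : Scheme.{u}} {A σ : Type u} [CommRing A] [SetLike σ A] [AddSubgroupClass σ A] {𝒜 : ℕ → σ}
  [GradedRing 𝒜] (j : Proj 𝒜 ⟶ X) [IsOpenImmersion j] {L : X.Modules}

/-- If a global section reads `f / 1` in `A(d)~`, it generates exactly where `f` does not vanish. -/
theorem mem_genLocus_iff {d : ℕ} (lam : L ⟶ (Scheme.Modules.pushforward j).obj (GrMod.tilde 𝒜 𝒜 (d : ℤ)))
    (hlam : ∀ W : X.Opens, W ≤ j.opensRange → Function.Bijective (lam.app W))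
    (s : Coh.structureModule X ⟶ L) {f : A} (hf : f ∈ 𝒜 d)
    (hs : ∀ y : Proj 𝒜, GrModLib.valAt (V := j ⁻¹ᵁ ⊤) (lam.app ⊤ (AmpleLib.sec s)) ⟨y, Set.mem_univ _⟩ =
      LocalizedModule.mk f 1)
    (hgen : (HomogeneousIdeal.irrelevant 𝒜).toIdeal = Ideal.span (𝒜 1 : Set A)) (y : Proj 𝒜) :
    j.base y ∈ CohB1.genLocus L s ↔ y ∈ Proj.basicOpen 𝒜 f := by
  obtain ⟨g, hg⟩ := GrModLib.exists_mem_one_notMem hgen y
  have hgd : g.1 ^ d ∈ 𝒜 d := by simpa using SetLike.pow_mem_graded d g.2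
  have hV : Proj.basicOpen 𝒜 g.1 ≤ Proj.basicOpen 𝒜 (⟨1, SetLike.GradedOne.one_mem⟩ : 𝒜 0).1 := fun z _ h =>
    z.isPrime.ne_top ((Ideal.eq_top_iff_one _).2 h)
  have hV' : Proj.basicOpen 𝒜 g.1 ≤ Proj.basicOpen 𝒜 (⟨g.1 ^ d, hgd⟩ : 𝒜 d).1 := fun z hz hm =>
    hz (z.isPrime.mem_of_pow_mem d hm)
  have hu := GrModLib.gen_frac (⟨g.1 ^ d, hgd⟩ : 𝒜 d) (⟨1, SetLike.GradedOne.one_mem⟩ : 𝒜 0) (d : ℤ) (by simp) hV hV'
  set W := j ''ᵁ Proj.basicOpen 𝒜 g.1 with hW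
  have hWr : W ≤ j.opensRange := j.image_le_opensRange _
  have hWV : j ⁻¹ᵁ W ≤ Proj.basicOpen 𝒜 g.1 := (j.preimage_image_eq _).le
  obtain ⟨e, he⟩ := (hlam W hWr).2 ((GrMod.tilde 𝒜 𝒜 (d : ℤ)).presheaf.map (homOfLE hWV).op
    (GrModLib.frac 𝒜 𝒜 (⟨g.1 ^ d, hgd⟩ : 𝒜 d) (⟨1, SetLike.GradedOne.one_mem⟩ : 𝒜 0) (d : ℤ) (by simp) hV))
  have hgenW : Gen W e := by
    intro O hO
    have hOr : O ≤ j.opensRange := hO.trans hWr
    refine (Function.Bijective.of_comp_iff' (hlam O hOr) _).1 ?_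
    have hOV : j ⁻¹ᵁ O ≤ Proj.basicOpen 𝒜 g.1 := (j.preimage_mono hO).trans hWV
    have e1 : (lam.app O ∘ fun r : Γ(X, O) => r • L.presheaf.map (homOfLE hO).op e) =
        (fun r : Γ(Proj 𝒜, j ⁻¹ᵁ O) => r • (GrMod.tilde 𝒜 𝒜 (d : ℤ)).presheaf.map (homOfLE hOV).op
          (GrModLib.frac 𝒜 𝒜 (⟨g.1 ^ d, hgd⟩ : 𝒜 d) (⟨1, SetLike.GradedOne.one_mem⟩ : 𝒜 0) (d : ℤ) (by simp) hV)) ∘
        j.app O := by
      funext r
      refine (Scheme.Modules.Hom.app_smul lam r _).trans ?_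
      have e2 : lam.app O (L.presheaf.map (homOfLE hO).op e) =
          (GrMod.tilde 𝒜 𝒜 (d : ℤ)).presheaf.map (homOfLE (j.preimage_mono hO)).op (lam.app W e) :=
        ConcreteCategory.congr_hom (lam.mapPresheaf.naturality (homOfLE hO).op) e
      rw [e2, he, res_res]
      rfl
    rw [e1]
    haveI := j.isIso_app O hOr
    exact (hu _ hOV).comp (ConcreteCategory.bijective_of_isIso (j.app O))
  haveI := j.isIso_app W hWr
  obtain ⟨a, ha⟩ := (ConcreteCategory.bijective_of_isIso (j.app W)).2 ((Proj 𝒜).presheaf.map (homOfLE hWV).op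
    (Proj.awayToSection 𝒜 g.1 (Away.mk 𝒜 g.2 d f (by simpa using hf))))
  have hae : a • e = AmpleLib.resT (AmpleLib.sec s) W := by
    refine (hlam W hWr).1 ((Scheme.Modules.Hom.app_smul lam a e).trans ?_)
    have e3 : lam.app W (AmpleLib.resT (AmpleLib.sec s) W) =
        (GrMod.tilde 𝒜 𝒜 (d : ℤ)).presheaf.map (homOfLE (j.preimage_mono le_top)).op (lam.app ⊤ (AmpleLib.sec s)) :=
      ConcreteCategory.congr_hom (lam.mapPresheaf.naturality (homOfLE (le_top : W ≤ ⊤)).op) _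
    rw [e3, he]
    refine GrModLib.sect_ext fun z => ?_
    rw [GrModLib.valAt_res, hs z.1]
    show GrModLib.valAt ((show Γ(Proj 𝒜, j ⁻¹ᵁ W) from j.app W a) • _) z = _
    rw [GrModLib.valAt_smul, GrModLib.valAt_res, GrModLib.valAt_frac, ha]
    show (((Proj.awayToSection 𝒜 g.1 (Away.mk 𝒜 g.2 d f (by simpa using hf)) :
      GrTwist.O (𝒜 := 𝒜) (op (Proj.basicOpen 𝒜 g.1))).1 ⟨z.1, hWV z.2⟩).val • _ :
        GrMod.LocMod 𝒜 (M := A) z.1) = _
    rw [GrModLib.val_awayToSection, LocalizedModule.mk_smul_mk, LocalizedModule.mk_eq]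
    refine ⟨1, ?_⟩
    simp only [one_smul]
    show f * g.1 ^ d = (g.1 ^ d * 1) • f
    rw [smul_eq_mul, mul_one, mul_comm]
  have hkey := AmpleLib.genLocus_inf_eq_basicOpen s hgenW hae
  have hxW : j.base y ∈ W := ⟨y, hg, rfl⟩
  have hb : j.base y ∈ CohB1.genLocus L s ↔ y ∈ j ⁻¹ᵁ (X.basicOpen a) :=
    ⟨fun h => (hkey.le ⟨h, hxW⟩ : j.base y ∈ X.basicOpen a), fun h => (hkey.ge h).1⟩
  rw [hb, Scheme.preimage_basicOpen, ha, Scheme.basicOpen_res, GrModLib.basicOpen_awayToSection,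
    Proj.basicOpen_mul]
  exact ⟨fun h => h.2.2, fun h => ⟨hxW, hg, h⟩⟩

end Groth.Agent.RelTildeLib
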