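import Groth.Agent.RelTildeLib.Compat
import Groth.Agent.RelTildeLib.GlueMod
import Groth.Agent.GrModLib.Comap
import Groth.Agent.RelProjLib.Exist

/-! The modules on the charts of a relative `Proj` attached to a family of graded modules, and their gluing. -/

set_option autoImplicit false
set_option linter.style.haveILetI false
set_option backward.isDefEq.respectTransparency false

universe u

open CategoryTheory CategoryTheory.Limits AlgebraicGeometry TopologicalSpace Opposite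
open scoped HomogeneousIdeal

noncomputable section

namespace Groth.Agent.RelTildeLib

variable {Y P : Scheme.{u}}

/-- Graded modules over the charts, localising each other. -/
structure Fam (𝒮 : RelProj.QCGrAlg Y) where
  M : ∀ (U : Y.Opens), IsAffineOpen U → Type u
  [acg : ∀ U hU, AddCommGroup (M U hU)]
  [mdl : ∀ U hU, Module (𝒮.presheaf.obj (op U)) (M U hU)]
  deg : ∀ U hU, ℕ → AddSubgroup (M U hU)
  [dcp : ∀ U hU, DirectSum.Decomposition (deg U hU)]
  [gs : ∀ U hU, SetLike.GradedSMul (𝒮.deg U hU) (deg U hU)]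
  res : ∀ {U V : Y.Opens} (hU : IsAffineOpen U) (hV : IsAffineOpen V) (i : V ≤ U),
    M U hU →ₛₗ[(𝒮.res hU hV i).toRingHom] M V hV
  res_res : ∀ {U V W : Y.Opens} (hU : IsAffineOpen U) (hV : IsAffineOpen V) (hW : IsAffineOpen W)
    (i : V ≤ U) (j : W ≤ V) (m : M U hU), res hV hW j (res hU hV i m) = res hU hW (j.trans i) m
  loc : ∀ (U : Y.Opens) (hU : IsAffineOpen U) (r : Γ(Y, U)),
    GrModLib.IsDegLoc (𝒮.res hU (hU.basicOpen r) (Y.basicOpen_le r)) (deg U hU) (deg _ (hU.basicOpen r))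
      (res hU (hU.basicOpen r) (Y.basicOpen_le r)) ((𝒮.str.app (op U)).hom r)

attribute [instance] Fam.acg Fam.mdl Fam.dcp Fam.gs

variable {𝒮 : RelProj.QCGrAlg Y} {p : P ⟶ Y}
  {chart : ∀ (U : Y.Opens) (hU : IsAffineOpen U), (((p ⁻¹ᵁ U : P.Opens) : Scheme.{u}) ≅ Proj (𝒮.deg U hU))}

/-- `V` is a basic open of `U`. -/
def IsBasic (U V : Y.Opens) : Prop := ∃ r : Γ(Y, U), Y.basicOpen r = V

theorem IsBasic.le {U V : Y.Opens} (h : IsBasic U V) : V ≤ U := by
  obtain ⟨r, rfl⟩ := h; exact Y.basicOpen_le r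

theorem IsBasic.trans {U V W : Y.Opens} (hU : IsAffineOpen U) (h : IsBasic U V) (h' : IsBasic V W) : IsBasic U W := by
  obtain ⟨r, rfl⟩ := h
  obtain ⟨g, rfl⟩ := h'
  exact hU.basicOpen_basicOpen_is_basicOpen r g

namespace Fam

variable (F : Fam 𝒮) {U V : Y.Opens} (hU : IsAffineOpen U) (hV : IsAffineOpen V) (h : IsBasic U V)

theorem hψ : (𝒮.deg V hV)₊ ≤ ((𝒮.deg U hU)₊).map (𝒮.res hU hV h.le) :=
  RelProjLib.irrelevant_le 𝒮 hU hV h h.le

theorem res_mem (i : ℕ) (m : F.M U hU) (hm : m ∈ F.deg U hU i) : F.res hU hV h.le m ∈ F.deg V hV i := by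
  obtain ⟨r, rfl⟩ := h
  exact (F.loc U hU r).mem i m hm

theorem exists_loc : ∃ c, GrModLib.IsDegLoc (𝒮.res hU hV h.le) (F.deg U hU) (F.deg V hV) (F.res hU hV h.le) c := by
  obtain ⟨r, rfl⟩ := h
  exact ⟨_, F.loc U hU r⟩

variable (hP : RelProj.IsRelProj 𝒮 p chart)

include hP in
theorem map_emb : Proj.map (𝒮.res hU hV h.le) (hψ hU hV h) ≫ RelProj.emb p chart U hU = RelProj.emb p chart V hV := by
  obtain ⟨r, rfl⟩ := h
  exact RelProj.map_res_emb hP U hU r

variable (chart) (n : ℤ)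

/-- The module of the chart over `U`, on `P`. -/
def push (U : Y.Opens) (hU : IsAffineOpen U) : P.Modules :=
  (Scheme.Modules.pushforward (RelProj.emb p chart U hU)).obj (GrMod.tilde (𝒮.deg U hU) (F.deg U hU) n)

variable {chart}

/-- The comparison of two charts. -/
def cmp : F.push chart n U hU ⟶ F.push chart n V hV :=
  (Scheme.Modules.pushforward (RelProj.emb p chart U hU)).map
      (GrMod.comap (𝒮.res hU hV h.le) (hψ hU hV h) (F.res hU hV h.le) (F.res_mem hU hV h) n) ≫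
    (Scheme.Modules.pushforwardComp (Proj.map (𝒮.res hU hV h.le) (hψ hU hV h)) (RelProj.emb p chart U hU)).hom.app _ ≫
    (Scheme.Modules.pushforwardCongr (map_emb hU hV h hP)).hom.app _

theorem cmp_val (W : P.Opens) (s : Γ(F.push chart n U hU, W)) (y : Proj (𝒮.deg V hV))
    (hy : y ∈ RelProj.emb p chart V hV ⁻¹ᵁ W)
    (hy' : ProjectiveSpectrum.comap (𝒮.res hU hV h.le) (hψ hU hV h) y ∈ RelProj.emb p chart U hU ⁻¹ᵁ W) :
    GrModLib.valAt ((F.cmp hU hV h hP n).app W s) ⟨y, hy⟩ =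
      GrMod.locModMap (𝒮.res hU hV h.le) (hψ hU hV h) (F.res hU hV h.le) y
        (GrModLib.valAt (s : Γ(GrMod.tilde (𝒮.deg U hU) (F.deg U hU) n, RelProj.emb p chart U hU ⁻¹ᵁ W)) ⟨_, hy'⟩) := by
  rfl

include h hP in
theorem comap_mem {W : P.Opens} (y : Proj (𝒮.deg V hV)) (hy : y ∈ RelProj.emb p chart V hV ⁻¹ᵁ W) :
    ProjectiveSpectrum.comap (𝒮.res hU hV h.le) (hψ hU hV h) y ∈ RelProj.emb p chart U hU ⁻¹ᵁ W := by
  rw [← map_emb hU hV h hP] at hy
  exact hy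

theorem cmp_rep (W : P.Opens) (s : Γ(F.push chart n U hU, W)) (y : Proj (𝒮.deg V hV))
    (hy : y ∈ RelProj.emb p chart V hV ⁻¹ᵁ W)
    {x : Proj (𝒮.deg U hU)} (hx : x ∈ RelProj.emb p chart U hU ⁻¹ᵁ W)
    (e : x = ProjectiveSpectrum.comap (𝒮.res hU hV h.le) (hψ hU hV h) y)
    {m : F.M U hU} {t : 𝒮.presheaf.obj (op U)} (ht : t ∉ x.asHomogeneousIdeal)
    (hrep : GrModLib.valAt (s : Γ(GrMod.tilde (𝒮.deg U hU) (F.deg U hU) n, RelProj.emb p chart U hU ⁻¹ᵁ W)) ⟨x, hx⟩ =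
      LocalizedModule.mk m ⟨t, ht⟩) :
    GrModLib.valAt ((F.cmp hU hV h hP n).app W s) ⟨y, hy⟩ =
      LocalizedModule.mk (F.res hU hV h.le m) ⟨𝒮.res hU hV h.le t, by subst e; exact ht⟩ := by
  rw [F.cmp_val hU hV h hP n W s y hy (comap_mem hU hV h hP y hy),
    GrModLib.valAt_congr s hx (comap_mem hU hV h hP y hy) e ht hrep, GrMod.locModMap_mk]

theorem cmp_comp {D : Y.Opens} (hD : IsAffineOpen D) (h' : IsBasic V D) :
    F.cmp hU hV h hP n ≫ F.cmp hV hD h' hP n = F.cmp hU hD (h.trans hU h') hP n := by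
  refine Scheme.Modules.hom_ext _ _ fun W => ConcreteCategory.hom_ext _ _ fun s => ?_
  show (F.cmp hV hD h' hP n).app W ((F.cmp hU hV h hP n).app W s) = (F.cmp hU hD (h.trans hU h') hP n).app W s
  refine GrModLib.sect_ext fun y => ?_
  obtain ⟨y, hy⟩ := y
  have hy₁ := comap_mem hV hD h' hP y hy
  have hy₂ := comap_mem hU hV h hP _ hy₁
  obtain ⟨i, j, m, t, ht, -, hq⟩ := GrModLib.exists_rep
    (((s : GrMod.sect (𝒮.deg U hU) (F.deg U hU) n (op (RelProj.emb p chart U hU ⁻¹ᵁ W))).1 ⟨_, hy₂⟩).2)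
  have hres : ∀ a, 𝒮.res hV hD h'.le (𝒮.res hU hV h.le a) = 𝒮.res hU hD (h.trans hU h').le a := fun a => by
    exact congrArg (fun φ : 𝒮.deg U hU →+*ᵍ 𝒮.deg D hD => φ a) (RelProjLib.res_comp 𝒮 hU hV hD h.le h'.le)
  have he : ProjectiveSpectrum.comap (𝒮.res hU hV h.le) (hψ hU hV h)
      (ProjectiveSpectrum.comap (𝒮.res hV hD h'.le) (hψ hV hD h') y) =
      ProjectiveSpectrum.comap (𝒮.res hU hD (h.trans hU h').le) (hψ hU hD (h.trans hU h')) y := by
    refine ProjectiveSpectrum.ext (HomogeneousIdeal.ext (Ideal.ext fun a => ?_))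
    show 𝒮.res hV hD h'.le (𝒮.res hU hV h.le a) ∈ y.asHomogeneousIdeal ↔
      𝒮.res hU hD (h.trans hU h').le a ∈ y.asHomogeneousIdeal
    rw [hres]
  rw [F.cmp_rep hV hD h' hP n W _ y hy hy₁ rfl _ (F.cmp_rep hU hV h hP n W s _ hy₁ hy₂ rfl ht hq),
    F.cmp_rep hU hD (h.trans hU h') hP n W s y hy hy₂ he ht hq, F.res_res]
  congr 1
  exact Subtype.ext (hres t.1)

include hP in
theorem cmp_bijective (W : P.Opens) (hW : W ≤ p ⁻¹ᵁ V) : Function.Bijective ((F.cmp hU hV h hP n).app W) := by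
  obtain ⟨c, hc⟩ := F.exists_loc hU hV h
  set ψ := 𝒮.res hU hV h.le
  set φ := Proj.map ψ (hψ hU hV h)
  haveI : IsOpenImmersion (φ ≫ RelProj.emb p chart U hU) := by
    rw [map_emb hU hV h hP]; infer_instance
  haveI : IsOpenImmersion φ := IsOpenImmersion.of_comp φ (RelProj.emb p chart U hU)
  have hinj : ∀ (W : P.Opens), W ≤ p ⁻¹ᵁ V → Function.Injective ((F.cmp hU hV h hP n).app W) := by
    intro W hW
    refine (injective_iff_map_eq_zero _).2 fun s hs => GrModLib.sect_ext fun x => ?_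
    obtain ⟨x, hx⟩ := x
    obtain ⟨y, hy⟩ : ∃ y, (RelProj.emb p chart V hV).base y = (RelProj.emb p chart U hU).base x :=
      (opensRange_emb (chart := chart) V hV).ge (hW hx)
    have hyW : y ∈ RelProj.emb p chart V hV ⁻¹ᵁ W := by
      show (RelProj.emb p chart V hV).base y ∈ W
      rw [hy]; exact hx
    have e : ProjectiveSpectrum.comap ψ (hψ hU hV h) y = x :=
      (RelProj.emb p chart U hU).isOpenEmbedding.injective
        ((congrArg (fun f : Proj (𝒮.deg V hV) ⟶ P => f.base y) (map_emb hU hV h hP)).trans hy)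
    refine GrModLib.valAt_congr_zero (s : Γ(GrMod.tilde (𝒮.deg U hU) (F.deg U hU) n, RelProj.emb p chart U hU ⁻¹ᵁ W))
      (comap_mem hU hV h hP y hyW) hx e ?_
    refine hc.locModMap_eq_zero (hψ hU hV h) ?_
    rw [← F.cmp_val hU hV h hP n W s y hyW, hs]
    rfl
  refine ⟨hinj W hW, fun σ₀ => ?_⟩
  let j := RelProj.emb p chart V hV
  have hloc : ∀ x : W, ∃ (O : P.Opens) (hO : O ≤ W), x.1 ∈ O ∧ ∃ s : Γ(F.push chart n U hU, O),
      (F.cmp hU hV h hP n).app O s = (F.push chart n V hV).presheaf.map (homOfLE hO).op σ₀ := by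
    rintro ⟨x, hx⟩
    obtain ⟨y, rfl⟩ := (opensRange_emb (chart := chart) V hV).ge (hW hx)
    obtain ⟨Z, hZ, hyZ, T, τ₀, hT, hval⟩ := hc.exists_local_lift (hψ hU hV h)
      (σ₀ : Γ(GrMod.tilde (𝒮.deg V hV) (F.deg V hV) n, j ⁻¹ᵁ W)) ⟨y, hx⟩
    have hOW : j ''ᵁ Z ≤ W := (j.image_mono hZ).trans (j.image_preimage_le W)
    have hle : RelProj.emb p chart U hU ⁻¹ᵁ (j ''ᵁ Z) ≤ T := by
      rintro x ⟨z, hz, hzx⟩
      obtain rfl : φ.base z = x := (RelProj.emb p chart U hU).isOpenEmbedding.injective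
        ((congrArg (fun f : Proj (𝒮.deg V hV) ⟶ P => f.base z) (map_emb hU hV h hP)).trans hzx)
      exact hT hz
    refine ⟨j ''ᵁ Z, hOW, ⟨y, hyZ, rfl⟩,
      (GrMod.tilde (𝒮.deg U hU) (F.deg U hU) n).presheaf.map (homOfLE hle).op τ₀, GrModLib.sect_ext fun z => ?_⟩
    have hzZ : z.1 ∈ Z := (j.preimage_image_eq Z).le z.2
    rw [F.cmp_val hU hV h hP n _ _ z.1 z.2 (comap_mem hU hV h hP z.1 z.2)]
    refine Eq.trans ?_ (hval ⟨z.1, hzZ⟩ (hZ hzZ))
    rfl
  choose O hO hxO s hs using hloc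
  let S : TopCat.Sheaf Ab.{u} P.carrier := ⟨(F.push chart n U hU).presheaf, (F.push chart n U hU).isSheaf⟩
  have hnat : ∀ {A B : P.Opens} (i : B ≤ A) (z : Γ(F.push chart n U hU, A)),
      (F.cmp hU hV h hP n).app B ((F.push chart n U hU).presheaf.map (homOfLE i).op z) =
        (F.push chart n V hV).presheaf.map (homOfLE i).op ((F.cmp hU hV h hP n).app A z) := fun i z =>
    ConcreteCategory.congr_hom ((F.cmp hU hV h hP n).mapPresheaf.naturality (homOfLE i).op) z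
  obtain ⟨S₀, hS₀, -⟩ := S.existsUnique_gluing' O W (fun x => homOfLE (hO x))
    (fun x hx => Opens.mem_iSup.2 ⟨⟨x, hx⟩, hxO ⟨x, hx⟩⟩) s (fun a b => by
      refine hinj (O a ⊓ O b) (inf_le_left.trans ((hO a).trans hW)) ?_
      show (F.cmp hU hV h hP n).app _ ((F.push chart n U hU).presheaf.map (homOfLE inf_le_left).op (s a)) =
        (F.cmp hU hV h hP n).app _ ((F.push chart n U hU).presheaf.map (homOfLE inf_le_right).op (s b))
      rw [hnat, hnat, hs, hs, ParaFLib.res_res, ParaFLib.res_res])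
  refine ⟨S₀, TopCat.Sheaf.eq_of_locally_eq'
    (⟨(F.push chart n V hV).presheaf, (F.push chart n V hV).isSheaf⟩ : TopCat.Sheaf Ab.{u} P.carrier)
    O W (fun x => homOfLE (hO x)) (fun x hx => Opens.mem_iSup.2 ⟨⟨x, hx⟩, hxO ⟨x, hx⟩⟩) _ _ fun x => ?_⟩
  show (F.push chart n V hV).presheaf.map (homOfLE (hO x)).op ((F.cmp hU hV h hP n).app W S₀) = _
  rw [← hnat, show (F.push chart n U hU).presheaf.map (homOfLE (hO x)).op S₀ = s x from hS₀ x]
  exact hs x

theorem push_res_bijective (W : P.Opens) :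
    Function.Bijective ((F.push chart n U hU).presheaf.map (homOfLE (inf_le_left : W ⊓ p ⁻¹ᵁ U ≤ W)).op) := by
  have hle : RelProj.emb p chart U hU ⁻¹ᵁ W ≤ RelProj.emb p chart U hU ⁻¹ᵁ (W ⊓ p ⁻¹ᵁ U) :=
    fun y hy => ⟨hy, (opensRange_emb (chart := chart) U hU).le ⟨y, rfl⟩⟩
  refine Function.bijective_iff_has_inverse.2
    ⟨(GrMod.tilde (𝒮.deg U hU) (F.deg U hU) n).presheaf.map (homOfLE hle).op, fun z => ?_, fun z => ?_⟩
  · exact GrModLib.sect_ext fun y => rfl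
  · exact GrModLib.sect_ext fun y => rfl

/-- The gluing system. -/
def glueData (chart) (hP : RelProj.IsRelProj 𝒮 p chart) : GlueData P where
  κ := {U : Y.Opens // IsAffineOpen U}
  O a := p ⁻¹ᵁ a.1
  R a b := IsBasic a.1 b.1
  H a := F.push chart n a.1 a.2
  c {a b} h := F.cmp a.2 b.2 h hP n
  cover x := by
    obtain ⟨a, ha⟩ := exists_mem_opensRange chart x
    exact ⟨a, (opensRange_emb a.1 a.2).le ha⟩
  le h := p.preimage_mono h.le
  trans {a b d} h h' := h.trans a.2 h'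
  comp {a b d} h h' := F.cmp_comp a.2 b.2 h hP n d.2 h'
  common a b x ha hb := by
    obtain ⟨f, g, hfg, hxf⟩ := exists_basicOpen_le_affine_inter a.2 b.2 (p x) ⟨ha, hb⟩
    exact ⟨⟨Y.basicOpen f, a.2.basicOpen f⟩, ⟨f, rfl⟩, ⟨g, hfg.symm⟩, hxf⟩
  res_bij a W := F.push_res_bijective a.2 n W
  c_bij {a b} h W hW := F.cmp_bijective a.2 b.2 h hP n W hW

end Fam

end Groth.Agent.RelTildeLib
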