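import Groth.Agent.RelTildeLib.Basic

/-! Finiteness of sections, transported from a chart. -/

set_option autoImplicit false
set_option linter.style.haveILetI false
set_option backward.isDefEq.respectTransparency false

universe u

open CategoryTheory AlgebraicGeometry TopologicalSpace Opposite

noncomputable section

namespace Groth.Agent.RelTildeLib

variable {X U : Scheme.{u}} (j : U ⟶ X) [IsOpenImmersion j] {F : X.Modules} {G : U.Modules}
  (lam : F ⟶ (Scheme.Modules.pushforward j).obj G)

theorem finite_image (h : ∀ W : X.Opens, W ≤ j.opensRange → Function.Bijective (lam.app W))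
    {V : U.Opens} (hfin : Module.Finite Γ(U, V) Γ(G, V)) : Module.Finite Γ(X, j ''ᵁ V) Γ(F, j ''ᵁ V) := by
  classical
  let O := j ''ᵁ V
  have hO : O ≤ j.opensRange := j.image_le_opensRange V
  obtain ⟨S, hS⟩ := hfin.fg_top
  let r : Γ(G, V) → Γ(F, O) := fun z =>
    Function.surjInv (h O hO).2 (G.presheaf.map (homOfLE (j.preimage_image_eq V).le).op z)
  have hr : ∀ z, lam.app O (r z) = G.presheaf.map (homOfLE (j.preimage_image_eq V).le).op z :=
    fun z => Function.surjInv_eq (h O hO).2 _
  haveI := j.isIso_app O hO
  refine ⟨⟨S.image r, eq_top_iff.2 ?_⟩⟩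
  intro t ht
  clear ht
  obtain ⟨z, hz⟩ : ∃ z, G.presheaf.map (homOfLE (j.preimage_image_eq V).le).op z = lam.app O t :=
    ⟨G.presheaf.map (homOfLE (j.preimage_image_eq V).ge).op (lam.app O t),
      (ParaFLib.res_res _ _ _).trans (ConcreteCategory.congr_hom (G.presheaf.map_id _) _)⟩
  have htz : t = r z := (h O hO).1 (hz.symm.trans (hr z).symm)
  subst htz
  have hz' : z ∈ Submodule.span Γ(U, V) (S : Set Γ(G, V)) := hS ▸ Submodule.mem_top
  clear hz
  induction hz' using Submodule.span_induction with
  | mem z hzS => exact Submodule.subset_span (Finset.mem_coe.2 (Finset.mem_image_of_mem r hzS))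
  | zero => rw [show r 0 = 0 from (h O hO).1 (by rw [hr, map_zero, map_zero])]; exact zero_mem _
  | add a b _ _ ha hb =>
    rw [show r (a + b) = r a + r b from (h O hO).1 (by rw [map_add, hr, hr, hr, map_add])]
    exact add_mem ha hb
  | smul c a _ ha =>
    obtain ⟨c', hc'⟩ := (ConcreteCategory.bijective_of_isIso (j.app O)).2
      (U.presheaf.map (homOfLE (j.preimage_image_eq V).le).op c)
    have e : r (c • a) = c' • r a := (h O hO).1 (by
      rw [hr, G.map_smul]
      refine Eq.trans ?_ (Scheme.Modules.Hom.app_smul lam c' (r a)).symm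
      rw [hr a, ← hc']
      rfl)
    rw [e]
    exact Submodule.smul_mem _ _ ha

end Groth.Agent.RelTildeLib
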