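import Groth.Agent.RelTildeLib.Basic

/-! Uniqueness of modules glued on a relative `Proj`. -/

set_option autoImplicit false
set_option linter.style.haveILetI false
set_option backward.isDefEq.respectTransparency false

universe u

open CategoryTheory CategoryTheory.Limits AlgebraicGeometry TopologicalSpace Opposite
open Groth.Agent.ParaFLib
open scoped HomogeneousIdeal

noncomputable section

namespace Groth.Agent.RelTildeLib

variable {Y P : Scheme.{u}} {𝒮 : RelProj.QCGrAlg Y} {p : P ⟶ Y}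
  {chart : ∀ (U : Y.Opens) (hU : IsAffineOpen U), (((p ⁻¹ᵁ U : P.Opens) : Scheme.{u}) ≅ Proj (𝒮.deg U hU))}
  {F F' : P.Modules} {G : ∀ (U : Y.Opens) (hU : IsAffineOpen U), (Proj (𝒮.deg U hU)).Modules}
  {lam : ∀ (U : Y.Opens) (hU : IsAffineOpen U),
      F ⟶ (Scheme.Modules.pushforward (RelProj.emb p chart U hU)).obj (G U hU)}
  {lam' : ∀ (U : Y.Opens) (hU : IsAffineOpen U),
      F' ⟶ (Scheme.Modules.pushforward (RelProj.emb p chart U hU)).obj (G U hU)}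

/-- `t` reads as `s` in the chart over `U`. -/
def SameAt (lam : ∀ (U : Y.Opens) (hU : IsAffineOpen U),
      F ⟶ (Scheme.Modules.pushforward (RelProj.emb p chart U hU)).obj (G U hU))
    (lam' : ∀ (U : Y.Opens) (hU : IsAffineOpen U),
      F' ⟶ (Scheme.Modules.pushforward (RelProj.emb p chart U hU)).obj (G U hU))
    (U : Y.Opens) (hU : IsAffineOpen U) {W : P.Opens} (s : Γ(F, W)) (t : Γ(F', W)) : Prop :=
  (lam' U hU).app W t = (lam U hU).app W s

theorem SameAt.res {U : Y.Opens} {hU : IsAffineOpen U} {W W' : P.Opens} {s : Γ(F, W)} {t : Γ(F', W)}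
    (h : SameAt lam lam' U hU s t) (hW : W' ≤ W) :
    SameAt lam lam' U hU (F.presheaf.map (homOfLE hW).op s) (F'.presheaf.map (homOfLE hW).op t) := by
  have e1 := ConcreteCategory.congr_hom ((lam U hU).mapPresheaf.naturality (homOfLE hW).op) s
  have e2 := ConcreteCategory.congr_hom ((lam' U hU).mapPresheaf.naturality (homOfLE hW).op) t
  exact e2.trans ((congrArg _ h).trans e1.symm)

theorem SameAt.of_eq {U U' : Y.Opens} (e : U = U') {hU : IsAffineOpen U} {hU' : IsAffineOpen U'} {W : P.Opens}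
    {s : Γ(F, W)} {t : Γ(F', W)} (h : SameAt lam lam' U hU s t) : SameAt lam lam' U' hU' s t := by
  subst e; exact h

theorem eq_of_locally {L : P.Modules} {W : P.Opens} {a b : Γ(L, W)}
    (h : ∀ (U : Y.Opens) (_ : IsAffineOpen U),
      L.presheaf.map (homOfLE (inf_le_left : W ⊓ p ⁻¹ᵁ U ≤ W)).op a =
        L.presheaf.map (homOfLE (inf_le_left : W ⊓ p ⁻¹ᵁ U ≤ W)).op b) : a = b := by
  refine TopCat.Sheaf.eq_of_locally_eq' (⟨L.presheaf, L.isSheaf⟩ : TopCat.Sheaf Ab.{u} P.carrier)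
    (fun a : {U : Y.Opens // IsAffineOpen U} => W ⊓ p ⁻¹ᵁ a.1) W (fun _ => homOfLE inf_le_left)
    (fun x hx => ?_) _ _ fun a => h a.1 a.2
  obtain ⟨_, ⟨V, hV, rfl⟩, hxV, -⟩ :=
    Y.isBasis_affineOpens.exists_subset_of_mem_open (Set.mem_univ (p x)) isOpen_univ
  exact Opens.mem_iSup.2 ⟨⟨V, hV⟩, hx, hxV⟩

variable (hb' : ∀ (U : Y.Opens) (hU : IsAffineOpen U) (W : P.Opens), W ≤ p ⁻¹ᵁ U → Function.Bijective ((lam' U hU).app W))
  (hD : ∀ (U : Y.Opens) (hU : IsAffineOpen U) (r : Γ(Y, U)) (W : P.Opens) (s : Γ(F, W)) (t : Γ(F', W)),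
    SameAt lam lam' U hU s t → SameAt lam lam' (Y.basicOpen r) (hU.basicOpen r) s t)

include hb' in
theorem same_unique {W : P.Opens} {s : Γ(F, W)} {t t' : Γ(F', W)}
    (ht : ∀ U hU, SameAt lam lam' U hU s t) (ht' : ∀ U hU, SameAt lam lam' U hU s t') : t = t' :=
  eq_of_locally fun U hU => (hb' U hU _ inf_le_right).1
    (((ht U hU).res inf_le_left).trans ((ht' U hU).res inf_le_left).symm)

include hb' hD in
theorem exists_same {W : P.Opens} (s : Γ(F, W)) : ∃ t : Γ(F', W), ∀ U hU, SameAt lam lam' U hU s t := by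
  let F'' : TopCat.Sheaf Ab.{u} P.carrier := ⟨F'.presheaf, F'.isSheaf⟩
  let κ := {U : Y.Opens // IsAffineOpen U}
  have hex : ∀ a : κ, ∃ t : Γ(F', W ⊓ p ⁻¹ᵁ a.1),
      SameAt lam lam' a.1 a.2 (F.presheaf.map (homOfLE inf_le_left).op s) t :=
    fun a => (hb' a.1 a.2 _ inf_le_right).2 _
  choose t ht using hex
  have hcov : W ≤ ⨆ a : κ, W ⊓ p ⁻¹ᵁ a.1 := fun x hx => by
    obtain ⟨_, ⟨V, hV, rfl⟩, hxV, -⟩ :=
      Y.isBasis_affineOpens.exists_subset_of_mem_open (Set.mem_univ (p x)) isOpen_univ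
    exact Opens.mem_iSup.2 ⟨⟨V, hV⟩, hx, hxV⟩
  have hcomp : ∀ a b : κ, F'.presheaf.map (homOfLE (inf_le_left : (W ⊓ p ⁻¹ᵁ a.1) ⊓ (W ⊓ p ⁻¹ᵁ b.1) ≤ _)).op (t a) =
      F'.presheaf.map (homOfLE (inf_le_right : (W ⊓ p ⁻¹ᵁ a.1) ⊓ (W ⊓ p ⁻¹ᵁ b.1) ≤ _)).op (t b) := by
    intro a b
    let O := (W ⊓ p ⁻¹ᵁ a.1) ⊓ (W ⊓ p ⁻¹ᵁ b.1)
    have hx : ∀ x : O, ∃ (f : Γ(Y, a.1)) (g : Γ(Y, b.1)), Y.basicOpen f = Y.basicOpen g ∧ p x.1 ∈ Y.basicOpen f :=
      fun x => exists_basicOpen_le_affine_inter a.2 b.2 _ ⟨x.2.1.2, x.2.2.2⟩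
    choose f g hfg hxf using hx
    refine F''.eq_of_locally_eq' (fun x : O => O ⊓ p ⁻¹ᵁ Y.basicOpen (f x)) O (fun _ => homOfLE inf_le_left)
      (fun x hx => Opens.mem_iSup.2 ⟨⟨x, hx⟩, hx, hxf ⟨x, hx⟩⟩) _ _ fun x => ?_
    change F'.presheaf.map _ _ = F'.presheaf.map _ _
    rw [res_res, res_res]
    refine (hb' _ (a.2.basicOpen (f x)) _ inf_le_right).1 ?_
    have h1 := hD a.1 a.2 (f x) _ _ _ ((ht a).res
      (inf_le_left.trans inf_le_left : O ⊓ p ⁻¹ᵁ Y.basicOpen (f x) ≤ W ⊓ p ⁻¹ᵁ a.1))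
    have h2 : SameAt lam lam' (Y.basicOpen (f x)) (a.2.basicOpen (f x)) _ _ :=
      SameAt.of_eq (hfg x).symm (hD b.1 b.2 (g x) _ _ _ ((ht b).res
        (inf_le_left.trans inf_le_right : O ⊓ p ⁻¹ᵁ Y.basicOpen (f x) ≤ W ⊓ p ⁻¹ᵁ b.1)))
    rw [res_res] at h1 h2
    exact h1.trans h2.symm
  obtain ⟨T, hT, -⟩ := F''.existsUnique_gluing' (fun a : κ => W ⊓ p ⁻¹ᵁ a.1) W (fun _ => homOfLE inf_le_left)
    hcov t hcomp
  refine ⟨T, fun U hU => ?_⟩
  have h := ht ⟨U, hU⟩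
  rw [← show F'.presheaf.map (homOfLE inf_le_left).op T = t ⟨U, hU⟩ from hT _] at h
  have e1 := ConcreteCategory.congr_hom ((lam U hU).mapPresheaf.naturality
    (homOfLE (inf_le_left : W ⊓ p ⁻¹ᵁ U ≤ W)).op) s
  have e2 := ConcreteCategory.congr_hom ((lam' U hU).mapPresheaf.naturality
    (homOfLE (inf_le_left : W ⊓ p ⁻¹ᵁ U ≤ W)).op) T
  have e := e2.symm.trans (h.trans e1)
  have hle : RelProj.emb p chart U hU ⁻¹ᵁ W ≤ RelProj.emb p chart U hU ⁻¹ᵁ (W ⊓ p ⁻¹ᵁ U) :=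
    fun y hy => ⟨hy, (opensRange_emb U hU).le ⟨y, rfl⟩⟩
  have e' := congrArg ((G U hU).presheaf.map (homOfLE hle).op) e
  have hid : ∀ z : Γ(G U hU, RelProj.emb p chart U hU ⁻¹ᵁ W),
      (G U hU).presheaf.map (homOfLE hle).op ((G U hU).presheaf.map
        (homOfLE ((RelProj.emb p chart U hU).preimage_mono (inf_le_left : W ⊓ p ⁻¹ᵁ U ≤ W))).op z) = z := fun z => by
    rw [res_res]
    exact ConcreteCategory.congr_hom ((G U hU).presheaf.map_id _) z
  exact (hid _).symm.trans (e'.trans (hid _))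

include hb' hD in
theorem exists_hom : ∃ φ : F ⟶ F', ∀ (U : Y.Opens) (hU : IsAffineOpen U), φ ≫ lam' U hU = lam U hU := by
  choose T hT using fun (W : P.Opens) (s : Γ(F, W)) => exists_same hb' hD s
  refine ⟨SheafOfModules.Hom.mk <| PresheafOfModules.homMk
    { app := fun W => AddCommGrpCat.ofHom (AddMonoidHom.mk' (fun s : Γ(F, W.unop) => T W.unop s) fun s s' =>
        same_unique hb' (hT _ _) fun U hU => ?_)
      naturality := fun W W' i => ConcreteCategory.hom_ext _ _ fun s =>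
        same_unique hb' (hT _ _) fun U hU => (hT W.unop s U hU).res i.unop.le }
    (fun W r s => same_unique hb' (hT _ _) fun U hU => ?_), fun U hU => ?_⟩
  · show (lam' U hU).app _ (_ + _) = (lam U hU).app _ (s + s')
    rw [map_add, map_add, show (lam' U hU).app _ (T _ s) = _ from hT _ s U hU,
      show (lam' U hU).app _ (T _ s') = _ from hT _ s' U hU]
  · show (lam' U hU).app _ ((show Γ(P, W.unop) from r) • T _ s) = (lam U hU).app _ ((show Γ(P, W.unop) from r) • (show Γ(F, W.unop) from s))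
    rw [Scheme.Modules.Hom.app_smul, Scheme.Modules.Hom.app_smul, show (lam' U hU).app _ (T _ s) = _ from hT _ s U hU]
  · exact Scheme.Modules.hom_ext _ _ fun W => ConcreteCategory.hom_ext _ _ fun s => by
      rw [Scheme.Modules.Hom.comp_app]
      exact hT W s U hU

include hb' in
theorem hom_eq {φ ψ : F ⟶ F'} (h : ∀ (U : Y.Opens) (hU : IsAffineOpen U), φ ≫ lam' U hU = lam U hU)
    (h' : ∀ (U : Y.Opens) (hU : IsAffineOpen U), ψ ≫ lam' U hU = lam U hU) : φ = ψ :=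
  Scheme.Modules.hom_ext _ _ fun W => ConcreteCategory.hom_ext _ _ fun s => same_unique (lam := lam) (s := s) hb'
    (fun U hU => by rw [SameAt, ← h U hU, Scheme.Modules.Hom.comp_app]; rfl)
    fun U hU => by rw [SameAt, ← h' U hU, Scheme.Modules.Hom.comp_app]; rfl

theorem isIso_of_charts
    (hb : ∀ (U : Y.Opens) (hU : IsAffineOpen U) (W : P.Opens), W ≤ p ⁻¹ᵁ U → Function.Bijective ((lam U hU).app W))
    (hb' : ∀ (U : Y.Opens) (hU : IsAffineOpen U) (W : P.Opens), W ≤ p ⁻¹ᵁ U → Function.Bijective ((lam' U hU).app W))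
    (hD' : ∀ (U : Y.Opens) (hU : IsAffineOpen U) (r : Γ(Y, U)) (W : P.Opens) (s : Γ(F', W)) (t : Γ(F, W)),
      SameAt lam' lam U hU s t → SameAt lam' lam (Y.basicOpen r) (hU.basicOpen r) s t)
    (φ : F ⟶ F') (h : ∀ (U : Y.Opens) (hU : IsAffineOpen U), φ ≫ lam' U hU = lam U hU) : IsIso φ := by
  obtain ⟨ψ, hψ⟩ := exists_hom hb hD'
  exact ⟨ψ, hom_eq (lam := lam) (lam' := lam) hb (fun U hU => by rw [Category.assoc, hψ, h])
      (fun U hU => Category.id_comp _),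
    hom_eq (lam := lam') (lam' := lam') hb' (fun U hU => by rw [Category.assoc, h, hψ])
      (fun U hU => Category.id_comp _)⟩

end Groth.Agent.RelTildeLib
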