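import Groth.Agent.RelTildeLib.Morph
import Groth.Agent.GrModLib.Sections

/-! Isomorphisms of modules on `Proj` detected on basic opens. -/

set_option autoImplicit false
set_option linter.style.haveILetI false
set_option backward.isDefEq.respectTransparency false

universe u

open CategoryTheory CategoryTheory.Limits AlgebraicGeometry TopologicalSpace Opposite

noncomputable section

namespace Groth.Agent.RelTildeLib

theorem isIso_of_basicOpen {A σ : Type u} [CommRing A] [SetLike σ A] [AddSubgroupClass σ A] {𝒜 : ℕ → σ}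
    [GradedRing 𝒜] {M N : (Proj 𝒜).Modules} (φ : M ⟶ N)
    (h : ∀ (d : ℕ) (f : A), 0 < d → f ∈ 𝒜 d → Function.Bijective (φ.app (Proj.basicOpen 𝒜 f))) : IsIso φ := by
  haveI : Epi φ := epi_of_local φ fun W s x hx => by
    obtain ⟨e, g, he, hg, hxg, hgW⟩ := GrModLib.exists_basicOpen_le hx
    exact ⟨Proj.basicOpen 𝒜 g, hgW, hxg, (h e g he hg).2 _⟩
  haveI : Mono φ := mono_of_app_injective φ fun W => (injective_iff_map_eq_zero _).2 fun s hs => by
    have hx : ∀ x : W, ∃ V : {V : (Proj 𝒜).Opens // V ≤ W}, x.1 ∈ V.1 ∧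
        M.presheaf.map (homOfLE V.2).op s = 0 := fun x => by
      obtain ⟨e, g, he, hg, hxg, hgW⟩ := GrModLib.exists_basicOpen_le x.2
      refine ⟨⟨Proj.basicOpen 𝒜 g, hgW⟩, hxg, (h e g he hg).1 ?_⟩
      rw [map_zero]
      exact (ConcreteCategory.congr_hom (φ.mapPresheaf.naturality (homOfLE hgW).op) s).trans
        ((congrArg (N.presheaf.map (homOfLE hgW).op) hs).trans (map_zero _))
    choose V hxV hV using hx
    refine TopCat.Sheaf.eq_of_locally_eq' (⟨M.presheaf, M.isSheaf⟩ : TopCat.Sheaf Ab.{u} _)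
      (fun x => (V x).1) W (fun x => homOfLE (V x).2) (fun y hy => Opens.mem_iSup.2 ⟨⟨y, hy⟩, hxV ⟨y, hy⟩⟩) _ _
      fun x => ?_
    exact (hV x).trans (map_zero _).symm
  exact isIso_of_mono_of_epi φ

end Groth.Agent.RelTildeLib
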