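import Groth.Agent.RelTildeLib.Trivial
import Groth.Agent.GrModLib.Pair

/-! Pairings on a relative `Proj` given chart by chart. -/

set_option autoImplicit false
set_option linter.style.haveILetI false
set_option backward.isDefEq.respectTransparency false

universe u

open CategoryTheory CategoryTheory.Limits AlgebraicGeometry TopologicalSpace Opposite
open Groth.Agent.ParaFLib Groth.Agent.PullbackMod Groth.Agent.DCohLib
open scoped HomogeneousIdeal

noncomputable section

namespace Groth.Agent.RelTildeLib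

variable {Y P : Scheme.{u}} {𝒮 : RelProj.QCGrAlg Y} {p : P ⟶ Y}
  {chart : ∀ (U : Y.Opens) (hU : IsAffineOpen U), (((p ⁻¹ᵁ U : P.Opens) : Scheme.{u}) ≅ Proj (𝒮.deg U hU))}
  {m : ℤ} {G G' : ∀ (U : Y.Opens) (hU : IsAffineOpen U), (Proj (𝒮.deg U hU)).Modules} {L F F' : P.Modules}

/-- Chartwise data of a pairing `L × F → F'`. -/
structure PairData (p : P ⟶ Y)
    (chart : ∀ (U : Y.Opens) (hU : IsAffineOpen U), (((p ⁻¹ᵁ U : P.Opens) : Scheme.{u}) ≅ Proj (𝒮.deg U hU)))
    (m : ℤ) (G G' : ∀ (U : Y.Opens) (hU : IsAffineOpen U), (Proj (𝒮.deg U hU)).Modules) (L F F' : P.Modules) where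
  lamL : ∀ (U : Y.Opens) (hU : IsAffineOpen U),
    L ⟶ (Scheme.Modules.pushforward (RelProj.emb p chart U hU)).obj (GrTwist.twist (𝒮.deg U hU) m)
  lam : ∀ (U : Y.Opens) (hU : IsAffineOpen U), F ⟶ (Scheme.Modules.pushforward (RelProj.emb p chart U hU)).obj (G U hU)
  lam' : ∀ (U : Y.Opens) (hU : IsAffineOpen U),
    F' ⟶ (Scheme.Modules.pushforward (RelProj.emb p chart U hU)).obj (G' U hU)
  pair : ∀ (U : Y.Opens) (hU : IsAffineOpen U),
    ProjTwistLib.Pairing (GrTwist.twist (𝒮.deg U hU) m) (G U hU) (G' U hU)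
  bijL : ∀ (U : Y.Opens) (hU : IsAffineOpen U) (W : P.Opens), W ≤ p ⁻¹ᵁ U → Function.Bijective ((lamL U hU).app W)
  bij : ∀ (U : Y.Opens) (hU : IsAffineOpen U) (W : P.Opens), W ≤ p ⁻¹ᵁ U → Function.Bijective ((lam U hU).app W)
  bij' : ∀ (U : Y.Opens) (hU : IsAffineOpen U) (W : P.Opens), W ≤ p ⁻¹ᵁ U → Function.Bijective ((lam' U hU).app W)
  compat : ∀ (U : Y.Opens) (hU : IsAffineOpen U) (r : Γ(Y, U)) (W : P.Opens) (s : Γ(L, W)) (t : Γ(F, W))
    (u : Γ(F', W)),
    (lam' U hU).app W u = (pair U hU).f _ ((lamL U hU).app W s) ((lam U hU).app W t) →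
      (lam' (Y.basicOpen r) (hU.basicOpen r)).app W u = (pair (Y.basicOpen r) (hU.basicOpen r)).f _
        ((lamL (Y.basicOpen r) (hU.basicOpen r)).app W s) ((lam (Y.basicOpen r) (hU.basicOpen r)).app W t)

namespace PairData

variable (D : PairData p chart m G G' L F F')

/-- `u` is the product of `s` and `t`. -/
def IsProd {W : P.Opens} (s : Γ(L, W)) (t : Γ(F, W)) (u : Γ(F', W)) : Prop :=
  ∀ (U : Y.Opens) (hU : IsAffineOpen U),
    (D.lam' U hU).app W u = (D.pair U hU).f _ ((D.lamL U hU).app W s) ((D.lam U hU).app W t)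

theorem exists_prod (W : P.Opens) (s : Γ(L, W)) (t : Γ(F, W)) : ∃ u : Γ(F', W), D.IsProd s t u := by
  obtain ⟨u, hu⟩ := exists_section (lam' := D.lam') D.bij'
    (fun U hU => (D.pair U hU).f _ ((D.lamL U hU).app W s) ((D.lam U hU).app W t))
    (fun U hU r W' hW u h => by
      have key : ∀ (U : Y.Opens) (hU : IsAffineOpen U),
          (G' U hU).presheaf.map (homOfLE ((RelProj.emb p chart U hU).preimage_mono hW)).op
              ((D.pair U hU).f _ ((D.lamL U hU).app W s) ((D.lam U hU).app W t)) =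
            (D.pair U hU).f _ ((D.lamL U hU).app W' (L.presheaf.map (homOfLE hW).op s))
              ((D.lam U hU).app W' (F.presheaf.map (homOfLE hW).op t)) := fun U hU => by
        refine ((D.pair U hU).fres _ _ _).symm.trans ?_
        rw [show (D.lamL U hU).app W' (L.presheaf.map (homOfLE hW).op s) = _ from
            ConcreteCategory.congr_hom ((D.lamL U hU).mapPresheaf.naturality (homOfLE hW).op) s,
          show (D.lam U hU).app W' (F.presheaf.map (homOfLE hW).op t) = _ from
            ConcreteCategory.congr_hom ((D.lam U hU).mapPresheaf.naturality (homOfLE hW).op) t]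
        rfl
      exact (D.compat U hU r W' _ _ u (h.trans (key U hU))).trans (key _ _).symm)
  exact ⟨u, fun U hU => (hu U hU).trans (ConcreteCategory.congr_hom ((G' U hU).presheaf.map_id _) _)⟩

theorem prod_unique {W : P.Opens} {s : Γ(L, W)} {t : Γ(F, W)} {u u' : Γ(F', W)} (h : D.IsProd s t u)
    (h' : D.IsProd s t u') : u = u' :=
  eq_of_locally fun U hU => (D.bij' U hU _ inf_le_right).1 (by
    refine (ConcreteCategory.congr_hom ((D.lam' U hU).mapPresheaf.naturality (homOfLE inf_le_left).op) u).trans ?_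
    refine Eq.trans ?_
      (ConcreteCategory.congr_hom ((D.lam' U hU).mapPresheaf.naturality (homOfLE inf_le_left).op) u').symm
    exact congrArg (((Scheme.Modules.pushforward (RelProj.emb p chart U hU)).obj (G' U hU)).presheaf.map
      (homOfLE inf_le_left).op) ((h U hU).trans (h' U hU).symm))

/-- The product. -/
def prod (W : P.Opens) (s : Γ(L, W)) (t : Γ(F, W)) : Γ(F', W) := (D.exists_prod W s t).choose

theorem isProd_prod (W : P.Opens) (s : Γ(L, W)) (t : Γ(F, W)) : D.IsProd s t (D.prod W s t) :=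
  (D.exists_prod W s t).choose_spec

theorem prod_eq {W : P.Opens} {s : Γ(L, W)} {t : Γ(F, W)} {u : Γ(F', W)} (h : D.IsProd s t u) :
    D.prod W s t = u := D.prod_unique (D.isProd_prod W s t) h

/-- The pairing on `P`. -/
def pairing : ProjTwistLib.Pairing L F F' where
  f W := AddMonoidHom.mk' (fun s => AddMonoidHom.mk' (fun t => D.prod W s t) fun t t' =>
      D.prod_eq fun U hU => by rw [map_add, map_add, map_add, D.isProd_prod W s t U hU, D.isProd_prod W s t' U hU])
    fun s s' => AddMonoidHom.ext fun t => by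
      show D.prod W (s + s') t = D.prod W s t + D.prod W s' t
      exact D.prod_eq fun U hU => by
        rw [map_add, map_add, map_add, AddMonoidHom.add_apply, D.isProd_prod W s t U hU, D.isProd_prod W s' t U hU]
  smul_left W r s t := by
    show D.prod W (r • s) t = r • D.prod W s t
    refine D.prod_eq fun U hU => ?_
    rw [Scheme.Modules.Hom.app_smul, Scheme.Modules.Hom.app_smul, D.isProd_prod W s t U hU]
    exact ((D.pair U hU).smul_left _ _ _ _).symm
  smul_right W r s t := by
    show D.prod W s (r • t) = r • D.prod W s t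
    refine D.prod_eq fun U hU => ?_
    rw [Scheme.Modules.Hom.app_smul, Scheme.Modules.Hom.app_smul, D.isProd_prod W s t U hU]
    exact ((D.pair U hU).smul_right _ _ _ _).symm
  fres {W W'} h s t := by
    show D.prod W' _ _ = F'.presheaf.map (homOfLE h).op (D.prod W s t)
    refine D.prod_eq fun U hU => ?_
    rw [show (D.lamL U hU).app W' (L.presheaf.map (homOfLE h).op s) = _ from
        ConcreteCategory.congr_hom ((D.lamL U hU).mapPresheaf.naturality (homOfLE h).op) s,
      show (D.lam U hU).app W' (F.presheaf.map (homOfLE h).op t) = _ from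
        ConcreteCategory.congr_hom ((D.lam U hU).mapPresheaf.naturality (homOfLE h).op) t]
    refine (ConcreteCategory.congr_hom ((D.lam' U hU).mapPresheaf.naturality (homOfLE h).op) _).trans ?_
    refine Eq.trans ?_ ((D.pair U hU).fres ((RelProj.emb p chart U hU).preimage_mono h) _ _).symm
    exact congrArg _ (D.isProd_prod W s t U hU)

/-- The lifted map is bijective on the stalk at a point of a chart where the twisting sheaf has a unit that pairs
bijectively. -/
theorem bijective_stalk (U : Y.Opens) (hU : IsAffineOpen U) (y : Proj (𝒮.deg U hU))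
    (hb : ∀ (i j : ℕ) (a : 𝒮.deg U hU i) (s : 𝒮.deg U hU j) (he : (i : ℤ) = j + m) (O : (Proj (𝒮.deg U hU)).Opens)
      (hs : O ≤ Proj.basicOpen (𝒮.deg U hU) s.1), O ≤ Proj.basicOpen (𝒮.deg U hU) a.1 →
      Function.Bijective ((D.pair U hU).f O (GrModLib.fracT (𝒮.deg U hU) a s m he hs)))
    (hy : GrModLib.HasUnit (𝒮.deg U hU) m y) :
    Function.Bijective (stalkLin D.pairing.lift ((RelProj.emb p chart U hU).base y)) := by
  obtain ⟨i, j, a, s, he, hya, hys⟩ := hy
  let e := RelProj.emb p chart U hU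
  let V : (Proj (𝒮.deg U hU)).Opens := Proj.basicOpen (𝒮.deg U hU) s.1 ⊓ Proj.basicOpen (𝒮.deg U hU) a.1
  let W : P.Opens := e ''ᵁ V
  have hpre : e ⁻¹ᵁ W = V := e.preimage_image_eq V
  have hWU : W ≤ p ⁻¹ᵁ U := fun x hx => by
    obtain ⟨z, -, rfl⟩ := hx
    exact (opensRange_emb U hU).le ⟨z, rfl⟩
  obtain ⟨u, hu⟩ := (D.bijL U hU W hWU).2
    (GrModLib.fracT (𝒮.deg U hU) a s m he (hpre.le.trans inf_le_left))
  have hgen : Gen W u := gen_of_chart e (D.lamL U hU) (fun O hO => D.bijL U hU O (hO.trans (opensRange_emb U hU).le))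
    (fun x hx => by obtain ⟨z, -, rfl⟩ := hx; exact ⟨z, rfl⟩) (by
      rw [hu]
      exact GrModLib.gen_fracT a s m he _ (hpre.le.trans inf_le_right))
  refine ProjTwistLib.Pairing.bijective_stalk_lift _ (W := W) (u := u) ⟨y, ⟨hys, hya⟩, rfl⟩ hgen fun O hO => ?_
  have hOV : e ⁻¹ᵁ O ≤ V := (e.preimage_mono hO).trans hpre.le
  refine (Function.Bijective.of_comp_iff' (D.bij' U hU O (hO.trans hWU)) _).1 ?_
  have key : (D.lam' U hU).app O ∘ D.pairing.f O (L.presheaf.map (homOfLE hO).op u) =
      (D.pair U hU).f _ (GrModLib.fracT (𝒮.deg U hU) a s m he (hOV.trans inf_le_left)) ∘ (D.lam U hU).app O :=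
    funext fun t => by
      refine (D.isProd_prod O _ t U hU).trans ?_
      refine congrArg (fun z => (D.pair U hU).f _ z _) ?_
      refine (ConcreteCategory.congr_hom ((D.lamL U hU).mapPresheaf.naturality (homOfLE hO).op) u).trans ?_
      exact congrArg ((GrTwist.twist (𝒮.deg U hU) m).presheaf.map (homOfLE (e.preimage_mono hO)).op) hu
  rw [key]
  exact (hb i j a s he _ _ (hOV.trans inf_le_right)).comp (D.bij U hU O (hO.trans hWU))

end PairData

end Groth.Agent.RelTildeLib
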