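import Groth.Agent.RelTildeLib.Glue

/-! Gluing of sections given chart by chart. -/

set_option autoImplicit false
set_option linter.style.haveILetI false
set_option backward.isDefEq.respectTransparency false

universe u

open CategoryTheory CategoryTheory.Limits AlgebraicGeometry TopologicalSpace Opposite
open Groth.Agent.ParaFLib
open scoped HomogeneousIdeal

noncomputable section

namespace Groth.Agent.RelTildeLib

variable {Y P : Scheme.{u}} {𝒮 : RelProj.QCGrAlg Y} {p : P ⟶ Y}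
  {chart : ∀ (U : Y.Opens) (hU : IsAffineOpen U), (((p ⁻¹ᵁ U : P.Opens) : Scheme.{u}) ≅ Proj (𝒮.deg U hU))}
  {F' : P.Modules} {G : ∀ (U : Y.Opens) (hU : IsAffineOpen U), (Proj (𝒮.deg U hU)).Modules}
  {lam' : ∀ (U : Y.Opens) (hU : IsAffineOpen U),
      F' ⟶ (Scheme.Modules.pushforward (RelProj.emb p chart U hU)).obj (G U hU)}

/-- `t` reads as `σ` in the chart over `U`. -/
def ReadsAs (lam' : ∀ (U : Y.Opens) (hU : IsAffineOpen U),
      F' ⟶ (Scheme.Modules.pushforward (RelProj.emb p chart U hU)).obj (G U hU))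
    (U : Y.Opens) (hU : IsAffineOpen U) {W : P.Opens}
    (σ : Γ(G U hU, RelProj.emb p chart U hU ⁻¹ᵁ W)) {W' : P.Opens} (hW : W' ≤ W) (t : Γ(F', W')) : Prop :=
  (lam' U hU).app W' t = (G U hU).presheaf.map (homOfLE ((RelProj.emb p chart U hU).preimage_mono hW)).op σ

variable (hb' : ∀ (U : Y.Opens) (hU : IsAffineOpen U) (W : P.Opens), W ≤ p ⁻¹ᵁ U → Function.Bijective ((lam' U hU).app W))
  {W : P.Opens} (σ : ∀ (U : Y.Opens) (hU : IsAffineOpen U), Γ(G U hU, RelProj.emb p chart U hU ⁻¹ᵁ W))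
  (hD : ∀ (U : Y.Opens) (hU : IsAffineOpen U) (r : Γ(Y, U)) (W' : P.Opens) (hW : W' ≤ W) (t : Γ(F', W')),
    ReadsAs lam' U hU (σ U hU) hW t → ReadsAs lam' (Y.basicOpen r) (hU.basicOpen r) (σ _ (hU.basicOpen r)) hW t)

theorem ReadsAs.res {U : Y.Opens} {hU : IsAffineOpen U} {σ : Γ(G U hU, RelProj.emb p chart U hU ⁻¹ᵁ W)}
    {W' W'' : P.Opens} {hW : W' ≤ W} {t : Γ(F', W')} (h : ReadsAs lam' U hU σ hW t) (hW' : W'' ≤ W') :
    ReadsAs lam' U hU σ (hW'.trans hW) (F'.presheaf.map (homOfLE hW').op t) := by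
  have e := ConcreteCategory.congr_hom ((lam' U hU).mapPresheaf.naturality (homOfLE hW').op) t
  refine e.trans ((congrArg _ h).trans ?_)
  exact res_res _ _ _

theorem readsAs_of_eq {U U' : Y.Opens} (e : U = U') {hU : IsAffineOpen U} {hU' : IsAffineOpen U'}
    {W' : P.Opens} {hW : W' ≤ W} {t : Γ(F', W')}
    (h : ReadsAs lam' U hU (σ U hU) hW t) : ReadsAs lam' U' hU' (σ U' hU') hW t := by
  subst e; exact h

include hb' hD in
theorem exists_section : ∃ T : Γ(F', W), ∀ U hU, ReadsAs lam' U hU (σ U hU) le_rfl T := by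
  let F'' : TopCat.Sheaf Ab.{u} P.carrier := ⟨F'.presheaf, F'.isSheaf⟩
  let κ := {U : Y.Opens // IsAffineOpen U}
  have hex : ∀ a : κ, ∃ t : Γ(F', W ⊓ p ⁻¹ᵁ a.1), ReadsAs lam' a.1 a.2 (σ a.1 a.2) inf_le_left t :=
    fun a => (hb' a.1 a.2 _ inf_le_right).2 _
  choose t ht using hex
  have hcov : W ≤ ⨆ a : κ, W ⊓ p ⁻¹ᵁ a.1 := fun x hx => by
    obtain ⟨_, ⟨V, hV, rfl⟩, hxV, -⟩ :=
      Y.isBasis_affineOpens.exists_subset_of_mem_open (Set.mem_univ (p x)) isOpen_univ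
    exact Opens.mem_iSup.2 ⟨⟨V, hV⟩, hx, hxV⟩
  have hcomp : ∀ a b : κ, F'.presheaf.map (homOfLE (inf_le_left : (W ⊓ p ⁻¹ᵁ a.1) ⊓ (W ⊓ p ⁻¹ᵁ b.1) ≤ _)).op (t a) =
      F'.presheaf.map (homOfLE (inf_le_right : (W ⊓ p ⁻¹ᵁ a.1) ⊓ (W ⊓ p ⁻¹ᵁ b.1) ≤ _)).op (t b) := by
    intro a b
    let O := (W ⊓ p ⁻¹ᵁ a.1) ⊓ (W ⊓ p ⁻¹ᵁ b.1)
    have hx : ∀ x : O, ∃ (f : Γ(Y, a.1)) (g : Γ(Y, b.1)), Y.basicOpen f = Y.basicOpen g ∧ p x.1 ∈ Y.basicOpen f :=
      fun x => exists_basicOpen_le_affine_inter a.2 b.2 _ ⟨x.2.1.2, x.2.2.2⟩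
    choose f g hfg hxf using hx
    refine F''.eq_of_locally_eq' (fun x : O => O ⊓ p ⁻¹ᵁ Y.basicOpen (f x)) O (fun _ => homOfLE inf_le_left)
      (fun x hx => Opens.mem_iSup.2 ⟨⟨x, hx⟩, hx, hxf ⟨x, hx⟩⟩) _ _ fun x => ?_
    change F'.presheaf.map _ _ = F'.presheaf.map _ _
    rw [res_res, res_res]
    refine (hb' _ (a.2.basicOpen (f x)) _ inf_le_right).1 ?_
    have h1 := hD a.1 a.2 (f x) _ _ _ ((ht a).res
      (inf_le_left.trans inf_le_left : O ⊓ p ⁻¹ᵁ Y.basicOpen (f x) ≤ W ⊓ p ⁻¹ᵁ a.1))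
    have h2 : ReadsAs lam' (Y.basicOpen (f x)) (a.2.basicOpen (f x)) (σ _ (a.2.basicOpen (f x))) _ _ :=
      readsAs_of_eq σ (hfg x).symm (hD b.1 b.2 (g x) _ _ _ ((ht b).res
        (inf_le_left.trans inf_le_right : O ⊓ p ⁻¹ᵁ Y.basicOpen (f x) ≤ W ⊓ p ⁻¹ᵁ b.1)))
    exact h1.trans h2.symm
  obtain ⟨T, hT, -⟩ := F''.existsUnique_gluing' (fun a : κ => W ⊓ p ⁻¹ᵁ a.1) W (fun _ => homOfLE inf_le_left)
    hcov t hcomp
  refine ⟨T, fun U hU => ?_⟩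
  have h := ht ⟨U, hU⟩
  rw [← show F'.presheaf.map (homOfLE inf_le_left).op T = t ⟨U, hU⟩ from hT _] at h
  have e2 := ConcreteCategory.congr_hom ((lam' U hU).mapPresheaf.naturality
    (homOfLE (inf_le_left : W ⊓ p ⁻¹ᵁ U ≤ W)).op) T
  have e := e2.symm.trans h
  have hle : RelProj.emb p chart U hU ⁻¹ᵁ W ≤ RelProj.emb p chart U hU ⁻¹ᵁ (W ⊓ p ⁻¹ᵁ U) :=
    fun y hy => ⟨hy, (opensRange_emb U hU).le ⟨y, rfl⟩⟩
  have e' := congrArg ((G U hU).presheaf.map (homOfLE hle).op) e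
  have hid : ∀ z : Γ(G U hU, RelProj.emb p chart U hU ⁻¹ᵁ W),
      (G U hU).presheaf.map (homOfLE hle).op ((G U hU).presheaf.map
        (homOfLE ((RelProj.emb p chart U hU).preimage_mono (inf_le_left : W ⊓ p ⁻¹ᵁ U ≤ W))).op z) = z := fun z => by
    rw [res_res]
    exact ConcreteCategory.congr_hom ((G U hU).presheaf.map_id _) z
  exact (hid _).symm.trans (e'.trans ((hid _).trans (ConcreteCategory.congr_hom ((G U hU).presheaf.map_id _) _).symm))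

end Groth.Agent.RelTildeLib
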